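import Cfsg.Agent.GroupStructure3.PQ.ModuleBase

/-!
The symmetric group of degree 3 acting without fixed points on an `s`-group `R` and a module `V`
forces `⁅R, R⁆` to centralize `V`.
-/

set_option autoImplicit false
set_option linter.style.haveILetI false
set_option linter.deprecated false

namespace Cfsg.Agent.GroupStructure3.PQ

open Subgroup Cfsg.Agent
open scoped commutatorElement Pointwise

universe u

/-- A configuration for `S₃`. -/
structure Three {X : Type u} [Group X] (F H R V : Subgroup X) (l s : ℕ) : Prop where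
  D : Data F H 3 2
  hl : l.Prime
  hs : s.Prime
  ls : l ≠ s
  l3 : l ≠ 3
  l2 : l ≠ 2
  s3 : s ≠ 3
  s2 : s ≠ 2
  hV : Cfsg.IsElementaryAbelian l V
  hR : IsPGroup s R
  hRV : R ≤ normalizer (V : Set X)
  fV : Fpf F H V
  fR : Fpf F H R

/-- The conclusion, for configurations of size less than `n`. -/
def UptoThree (l s n : ℕ) : Prop :=
  ∀ {X : Type u} [Group X] [Finite X] (F H R V : Subgroup X), Nat.card R + Nat.card V < n →
    Three F H R V l s → ⁅R, R⁆ ≤ centralizer (V : Set X)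

variable {X : Type u} [Group X] [Finite X] {F H R V : Subgroup X} {l s : ℕ}

theorem Three.restrict (c : Three F H R V l s) {R' V' : Subgroup X} (hR : R' ≤ R) (hV : V' ≤ V)
    (hRV : R' ≤ normalizer (V' : Set X))
    (fV : F ≤ normalizer (V' : Set X) ∧ H ≤ normalizer (V' : Set X))
    (fR : F ≤ normalizer (R' : Set X) ∧ H ≤ normalizer (R' : Set X)) : Three F H R' V' l s where
  D := c.D
  hl := c.hl
  hs := c.hs
  ls := c.ls
  l3 := c.l3
  l2 := c.l2
  s3 := c.s3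
  s2 := c.s2
  hV := Components.Hyperplane.isElementaryAbelian_of_le c.hV hV
  hR := c.hR.to_le hR
  hRV := hRV
  fV := c.fV.of_le hV fV.1 fV.2
  fR := c.fR.of_le hR fR.1 fR.2

theorem Three.isPGroup_V (c : Three F H R V l s) : IsPGroup l V :=
  haveI := Fact.mk c.hl
  Components.Hyperplane.isPGroup c.hV

/-- An involution without fixed points inverts, and the group it acts on is abelian. -/
theorem invert_of_fpf {h : X} {W : Subgroup X} (hh : h ∈ normalizer (W : Set X)) (h2 : h * h = 1)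
    (hfix : ∀ w ∈ W, h * w * h⁻¹ = w → w = 1) :
    (∀ w ∈ W, h * w * h⁻¹ = w⁻¹) ∧ IsMulCommutative W := by
  set φ : MulAut W := W.normalizerMonoidHom ⟨h, hh⟩
  have hφ : ∀ x : W, (φ x : X) = h * x * h⁻¹ := fun _ => rfl
  have hh' : h⁻¹ = h := inv_eq_of_mul_eq_one_left h2
  have h1 : MonoidHom.FixedPointFree (φ.toMonoidHom : W →* W) := fun x hx =>
    Subtype.ext (hfix x x.2 ((hφ x).symm.trans (congrArg Subtype.val hx)))
  have h3 : Function.Involutive (φ.toMonoidHom : W →* W) := by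
    intro x
    refine Subtype.ext ?_
    show (φ (φ x) : X) = x
    rw [hφ, hφ, hh']
    calc h * (h * x * h) * h = (h * h) * x * (h * h) := by group
      _ = x := by rw [h2, one_mul, mul_one]
  refine ⟨fun w hw => ?_, ⟨⟨fun a b => MonoidHom.FixedPointFree.commute_all_of_involutive h1 h3 a b⟩⟩⟩
  have := congrFun (MonoidHom.FixedPointFree.coe_eq_inv_of_involutive h1 h3) ⟨w, hw⟩
  exact (hφ ⟨w, hw⟩).symm.trans (congrArg Subtype.val this)

theorem Three.pass {n : ℕ} (IH : UptoThree.{u} l s n) (c : Three F H R V l s)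
    (hn : Nat.card R + Nat.card V ≤ n) (hD : R ⊓ centralizer (V : Set X) ≠ ⊥) :
    ⁅R, R⁆ ≤ centralizer (V : Set X) := by
  set N := R ⊓ centralizer (V : Set X) with hN
  have hnN : ∀ B : Subgroup X, B ≤ normalizer (R : Set X) → B ≤ normalizer (V : Set X) → B ≤ normalizer (N : Set X) :=
    fun B h1 h2 => le_normalizer_inf h1 (le_normalizer_centralizer h2)
  have hRN := hnN R le_normalizer c.hRV
  have hFN := hnN F c.fR.hF c.fV.hF
  have hHN := hnN H c.fR.hH c.fV.hH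
  have hVN : V ≤ normalizer (N : Set X) := le_normalizer_of_le_centralizer (le_centralizer_iff.mp inf_le_right)
  have hcop : ∀ (S : Subgroup X) (r : ℕ), r.Prime → IsPGroup r S → r ≠ 3 → r ≠ 2 → (Nat.card S).Coprime (3 * 2) :=
    fun S r hr hS h1 h2 => Nat.Coprime.mul_right (card_coprime hr hS c.D.hp h1) (card_coprime hr hS c.D.hq h2)
  have hVone : ∀ x ∈ V, x ∈ N → x = 1 := fun x h1 h2 =>
    GenA.FixedPointFreeModule.disjoint_of_coprime c.hl c.hs c.ls c.hV c.hR h1 h2.1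
  have c' : Three (sec N F) (sec N H) (sec N R) (sec N V) l s :=
    { D := sec_data c.D hFN hHN (hcop N s c.hs (c.hR.to_le inf_le_left) c.s3 c.s2)
      hl := c.hl, hs := c.hs, ls := c.ls, l3 := c.l3, l2 := c.l2, s3 := c.s3, s2 := c.s2
      hV := sec_elementary hVN (Subgroup.commutator_le.mpr fun a ha b hb => by
          rw [commutatorElement_eq_one_iff_mul_comm.mpr (Components.Hyperplane.mem_comm c.hV ha hb)]
          exact one_mem N)
        (fun x hx => by rw [c.hV.2 x hx]; exact one_mem N)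
      hR := sec_isPGroup c.hR
      hRV := sec_le_normalizer c.hRV
      fV := sec_fpf c.D hFN hHN hVN c.fV (hcop V l c.hl c.isPGroup_V c.l3 c.l2) (isSolvable_of_isPGroup c.hl c.isPGroup_V)
      fR := sec_fpf c.D hFN hHN hRN c.fR (hcop R s c.hs c.hR c.s3 c.s2) (isSolvable_of_isPGroup c.hs c.hR) }
  have h := IH _ _ _ _ (by
    have h1 := card_sec_lt hRN inf_le_left hD
    have h3 := Nat.le_of_dvd Nat.card_pos (card_sec_dvd hVN)
    omega) c'
  rw [← sec_commutator hRN hRN] at h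
  have hRR : ⁅R, R⁆ ≤ R := Coprime.commutator_le_of_le_normalizer le_normalizer
  have h2 := (commutator_le_iff_sec hVN (hRR.trans hRN)).mpr h
  intro x hx
  rw [mem_centralizer_iff]
  intro v hv
  have h3 : ⁅v, x⁆ ∈ V := by
    rw [show ⁅v, x⁆ = v * (x * v⁻¹ * x⁻¹) by rw [commutatorElement_def]; group]
    exact mul_mem hv ((mem_normalizer_iff.mp (c.hRV (hRR hx)) _).mp (inv_mem hv))
  exact commutatorElement_eq_one_iff_mul_comm.mp (hVone _ h3 (h2 (Subgroup.commutator_mem_commutator hv hx)))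

theorem Three.step {n : ℕ} (IH : UptoThree.{u} l s n) (c : Three F H R V l s)
    (hn : Nat.card R + Nat.card V ≤ n) : ⁅R, R⁆ ≤ centralizer (V : Set X) := by
  by_cases hD : R ⊓ centralizer (V : Set X) = ⊥
  swap
  · exact c.pass IH hn hD
  by_cases hnt : ⁅R, R⁆ = ⊥
  · rw [hnt]; exact bot_le
  exfalso
  haveI := Fact.mk c.hs
  haveI := Fact.mk c.hl
  have hR'R : ⁅R, R⁆ ≤ R := Coprime.commutator_le_of_le_normalizer le_normalizer
  have hRn : ∀ B : Subgroup X, B ≤ normalizer (R : Set X) → B ≤ normalizer ((⁅R, R⁆ : Subgroup X) : Set X) :=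
    fun B h => le_normalizer_commutator h h
  have hV0 : ∀ W : Subgroup X, W < V → R ≤ normalizer (W : Set X) → F ≤ normalizer (W : Set X) →
      H ≤ normalizer (W : Set X) → ⁅R, R⁆ ≤ centralizer (W : Set X) := by
    intro W hW hRW hFW hHW
    have c' := c.restrict le_rfl hW.le hRW ⟨hFW, hHW⟩ ⟨c.fR.hF, c.fR.hH⟩
    have hlt : Nat.card W < Nat.card V := lt_of_le_of_ne (Subgroup.card_le_of_le hW.le)
      (fun e => hW.ne (Subgroup.eq_of_le_of_card_ge hW.le e.ge))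
    exact IH _ _ _ _ (by omega) c'
  have cRV : (Nat.card R).Coprime (Nat.card V) := coprime_pGroups c.hs c.hR c.hl c.isPGroup_V c.ls.symm
  have hR'V : (Nat.card (⁅R, R⁆ : Subgroup X)).Coprime (Nat.card V) := cRV.coprime_dvd_left (Subgroup.card_dvd_of_le hR'R)
  have hVR : ⁅V, ⁅R, R⁆⁆ = V := by
    by_contra hne
    refine hnt (eq_bot_iff.mpr ((le_inf hR'R ?_).trans hD.le))
    exact Coprime.le_centralizer_of_commutator_commutator_eq_bot (hR'R.trans c.hRV) hR'V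
      (Or.inl (Coprime.isSolvable_of_le hR'R (isSolvable_of_isPGroup c.hs c.hR)))
      (Coprime.commutator_eq_bot_iff_le_centralizer'.mpr
        (hV0 _ (lt_of_le_of_ne (Coprime.commutator_le_of_le_normalizer (hR'R.trans c.hRV)) hne)
          (le_normalizer_commutator c.hRV (hRn R le_normalizer)) (le_normalizer_commutator c.fV.hF (hRn F c.fR.hF))
          (le_normalizer_commutator c.fV.hH (hRn H c.fR.hH))))
  have hfixV : V ⊓ centralizer ((⁅R, R⁆ : Subgroup X) : Set X) = ⊥ := by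
    haveI := c.hV.1
    have h := Coprime.inf_centralizer_inf_commutator (hR'R.trans c.hRV) hR'V
    rwa [hVR, inf_eq_left.mpr inf_le_left] at h
  set Z := (center R).map R.subtype with hZdef
  have hZR : Z ≤ R := map_subtype_le _
  have hRZ : R ≤ centralizer (Z : Set X) := by
    intro a ha
    rw [mem_centralizer_iff]
    rintro _ ⟨z, hz, rfl⟩
    exact (congrArg Subtype.val (mem_center_iff.mp hz ⟨a, ha⟩)).symm
  have hnZ : ∀ B : Subgroup X, B ≤ normalizer (R : Set X) → B ≤ normalizer (Z : Set X) := fun B hB b hb =>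
    GenA.MinimalAction.normalizer_map_of_characteristic _ (hB hb)
  have hkill : ∀ Y : Subgroup X, Y ≤ Z → Y ≠ ⊥ → F ≤ normalizer (Y : Set X) → H ≤ normalizer (Y : Set X) →
      V ⊓ centralizer (Y : Set X) = ⊥ := by
    intro Y hY hY1 hF hH
    have hn : ∀ B : Subgroup X, B ≤ normalizer (V : Set X) → B ≤ normalizer (Y : Set X) →
        B ≤ normalizer ((V ⊓ centralizer (Y : Set X) : Subgroup X) : Set X) := fun B h1 h2 =>
      le_normalizer_inf h1 (le_normalizer_centralizer h2)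
    have hlt : V ⊓ centralizer (Y : Set X) < V := lt_of_le_of_ne inf_le_left fun h => hY1 (eq_bot_iff.mpr
      ((le_inf (hY.trans hZR) (le_centralizer_iff.mp (inf_eq_left.mp h))).trans hD.le))
    have h := hV0 _ hlt (hn R c.hRV (le_normalizer_of_le_centralizer (hRZ.trans (centralizer_le hY))))
      (hn F c.fV.hF hF) (hn H c.fV.hH hH)
    exact eq_bot_iff.mpr ((le_inf inf_le_left (le_centralizer_iff.mp h)).trans hfixV.le)
  obtain ⟨h₀, hh₀, hh₀1⟩ := (Subgroup.bot_or_exists_ne_one H).resolve_left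
    (fun h => by have := c.D.hH; rw [h, Subgroup.card_bot] at this; omega)
  have hC0U : R ⊓ centralizer (F : Set X) ≤ centralizer ((V ⊓ centralizer (F : Set X) : Subgroup X) : Set X) :=
    commute_of_fpf c.D.hq c.D.hH
      (le_normalizer_inf (inf_le_left.trans c.hRV)
        (le_normalizer_centralizer (le_normalizer_of_le_centralizer inf_le_right)))
      (fixF_le_normalizer c.fV c.D.hHF).2 (fixF_le_normalizer c.fR c.D.hHF).2
      ((cRV.symm.coprime_dvd_left (Subgroup.card_dvd_of_le inf_le_left)).coprime_dvd_right (Subgroup.card_dvd_of_le inf_le_left))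
      c.fV.inf_eq_bot c.fR.inf_eq_bot
  have hY : Z ⊓ centralizer (F : Set X) = ⊥ := by
    by_contra hY1
    have hVY := hkill _ inf_le_left hY1 (le_normalizer_inf (hnZ F c.fR.hF) (le_normalizer_centralizer le_normalizer))
      (le_normalizer_inf (hnZ H c.fR.hH) (le_normalizer_centralizer c.D.hHF))
    have hU : V ⊓ centralizer (F : Set X) = ⊥ := by
      rw [eq_bot_iff, ← hVY]
      exact le_inf inf_le_left ((le_centralizer_iff.mp hC0U).trans
        (centralizer_le (inf_le_inf_right (centralizer (F : Set X)) hZR)))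
    have hLem := lem_F c.D c.hl c.hs c.ls c.l3 c.s3 c.s2 R V c.hR c.fR.hF c.hV c.fV.hF c.hRV hU
    have hFR : F ≤ centralizer (R : Set X) := Coprime.commutator_eq_bot_iff_le_centralizer'.mp (eq_bot_iff.mpr
      ((le_inf (Coprime.commutator_le_of_le_normalizer c.fR.hF) hLem).trans hD.le))
    have hgen := zpowers_eq_of_prime c.D.hq c.D.hH hh₀ hh₀1
    have h2 : h₀ * h₀ = 1 := by
      rw [← sq]; exact orderOf_dvd_iff_pow_eq_one.mp (c.D.hH ▸ Subgroup.orderOf_dvd_natCard H hh₀)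
    have hab := (invert_of_fpf (c.fR.hH hh₀) h2 fun x hx e => c.fR.fix x hx (le_centralizer_iff.mp hFR hx)
      (mem_centralizer_iff.mpr fun y hy => by
        rw [← hgen] at hy
        obtain ⟨i, rfl⟩ := hy
        exact (Commute.zpow_left (mul_inv_eq_iff_eq_mul.mp e) i).eq)).2
    exact hnt (eq_bot_iff.mpr (Subgroup.commutator_le.mpr fun a ha b hb =>
      mem_bot.mpr (commutatorElement_eq_one_iff_mul_comm.mpr (congrArg Subtype.val (hab.is_comm.comm ⟨a, ha⟩ ⟨b, hb⟩)))))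
  -- the elements of order dividing `s` in the centre
  let Z₀ : Subgroup X :=
    { carrier := {z | z ∈ Z ∧ z ^ s = 1}
      one_mem' := ⟨one_mem _, one_pow _⟩
      mul_mem' := fun {a b} ha hb => ⟨mul_mem ha.1 hb.1, by
        rw [(show Commute a b from mem_centralizer_iff.mp (hRZ (hZR hb.1)) a ha.1).mul_pow, ha.2, hb.2, one_mul]⟩
      inv_mem' := fun {a} ha => ⟨inv_mem ha.1, by rw [inv_pow, ha.2, inv_one]⟩ }
  have hZ₀Z : Z₀ ≤ Z := fun z hz => hz.1
  have hnZ₀ : ∀ B : Subgroup X, B ≤ normalizer (R : Set X) → B ≤ normalizer (Z₀ : Set X) := fun B hB => by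
    rw [Subgroup.le_normalizer_iff]
    exact fun b hb z hz => ⟨(mem_normalizer_iff.mp (hnZ B hB hb) z).mp hz.1, by
      rw [conj_pow, hz.2, mul_one, mul_inv_cancel]⟩
  have hR1 : R ≠ ⊥ := fun h => hnt (by rw [h, Subgroup.commutator_bot_left])
  haveI : Nontrivial R := (Subgroup.nontrivial_iff_ne_bot R).mpr hR1
  have hZ₀1 : Z₀ ≠ ⊥ := by
    intro h
    haveI : Nontrivial (center R) := c.hR.center_nontrivial
    obtain ⟨k, hk⟩ := (c.hR.to_subgroup (center R)).exists_card_eq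
    have hk0 : k ≠ 0 := fun h0 => (Finite.one_lt_card (α := center R)).ne' (by rw [hk, h0, pow_zero])
    obtain ⟨z, hz⟩ := exists_prime_orderOf_dvd_card' (G := center R) s (hk ▸ dvd_pow_self s hk0)
    have hz' : ((z : R) : X) ∈ Z₀ := ⟨⟨z, z.2, rfl⟩, by
      have e := pow_orderOf_eq_one z
      rw [hz] at e
      exact congrArg (fun w : center R => ((w : R) : X)) e⟩
    rw [h, mem_bot] at hz'
    have : z = 1 := Subtype.ext (Subtype.ext hz')
    rw [this, orderOf_one] at hz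
    exact c.hs.ne_one hz.symm
  have M : EMod l s Z₀ V := ⟨c.hl, c.hs, c.ls,
    ⟨⟨⟨fun a b => Subtype.ext (mem_centralizer_iff.mp (hRZ (hZR (hZ₀Z b.2))) a (hZ₀Z a.2))⟩⟩, fun a ha => ha.2⟩,
    c.hV, (hZ₀Z.trans hZR).trans c.hRV, hkill Z₀ hZ₀Z hZ₀1 (hnZ₀ F c.fR.hF) (hnZ₀ H c.fR.hH)⟩
  have hA : F ⊔ H ≤ normalizer (Z₀ : Set X) := sup_le (hnZ₀ F c.fR.hF) (hnZ₀ H c.fR.hH)
  have hRK : ∀ K, Hyper s Z₀ K → R ≤ normalizer (K : Set X) := fun K hK =>
    le_normalizer_of_le_centralizer (hRZ.trans (centralizer_le (hK.1.trans hZ₀Z)))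
  have hmoved : ∀ K, Hyper s Z₀ K → V ⊓ centralizer (K : Set X) ≠ ⊥ → F ⊓ normalizer (K : Set X) = ⊥ := by
    intro K hK hW
    refine (c.D.fixes_or_moves K).resolve_left fun hF => hK.not_le c.hs fun x hx => ?_
    obtain ⟨a, ha, d, hd, rfl⟩ := decompose_F c.D (hnZ₀ F c.fR.hF) c.hs (c.hR.to_le (hZ₀Z.trans hZR)) c.s3 hx
    have ha1 : a = 1 := mem_bot.mp (hY.le (mem_inf.mpr ⟨hZ₀Z ha.1, ha.2⟩))
    rw [ha1, one_mul]
    exact commutator_le_of_fixed c.D M c.l3 c.l2 c.s3 c.s2 c.fV hA hK hW hF hd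
  have hker : ∀ {K : Subgroup X}, V ⊓ centralizer (K : Set X) = ⊥ → ∀ x : X,
      x ∈ centralizer ((V ⊓ centralizer (K : Set X) : Subgroup X) : Set X) := by
    intro K hW x
    rw [hW, Subgroup.coe_bot, mem_centralizer_iff]
    rintro _ rfl
    rw [one_mul, mul_one]
  have hC0 : R ⊓ centralizer (F : Set X) = ⊥ := by
    rw [eq_bot_iff]
    intro x hx
    refine hD.le (mem_inf.mpr ⟨hx.1, M.mem_centralizer_of_forall hZ₀1 fun K hK => ?_⟩)
    by_cases hW : V ⊓ centralizer (K : Set X) = ⊥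
    · exact hker hW x
    · exact M.mem_centralizer_moved hK (hnZ₀ F c.fR.hF) c.fV.hF (hmoved K hK hW) (c.hRV hx.1) (hRK K hK hx.1)
        fun v hv => mul_inv_eq_iff_eq_mul.mpr (mem_centralizer_iff.mp (hC0U hx) v hv).symm
  -- each element commutes with its image
  have hsurj : ∀ f ∈ F, f ≠ 1 → ∀ y ∈ R, ∃ z ∈ R, y = z * (f * z * f⁻¹)⁻¹ := by
    intro f hf hf1 y hy
    let g : R → R := fun z => z * ⟨f * z * f⁻¹, (mem_normalizer_iff.mp (c.fR.hF hf) z).mp z.2⟩⁻¹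
    have hinj : Function.Injective g := by
      intro a b e
      have e' : (a : X) * (f * a * f⁻¹)⁻¹ = b * (f * b * f⁻¹)⁻¹ := congrArg Subtype.val e
      have hfix : f * ((b : X)⁻¹ * a) * f⁻¹ = (b : X)⁻¹ * a := by
        calc f * ((b : X)⁻¹ * a) * f⁻¹ = (b : X)⁻¹ * (b * (f * b * f⁻¹)⁻¹) * (f * a * f⁻¹) := by group
          _ = (b : X)⁻¹ * (a * (f * a * f⁻¹)⁻¹) * (f * a * f⁻¹) := by rw [e']
          _ = (b : X)⁻¹ * a := by group
      have hmem : (b : X)⁻¹ * a ∈ R ⊓ centralizer (F : Set X) := by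
        refine mem_inf.mpr ⟨mul_mem (inv_mem b.2) a.2, mem_centralizer_iff.mpr fun y hy => ?_⟩
        rw [← zpowers_eq_of_prime c.D.hp c.D.hF hf hf1] at hy
        obtain ⟨i, rfl⟩ := hy
        exact (Commute.zpow_left (mul_inv_eq_iff_eq_mul.mp hfix) i).eq
      rw [hC0, mem_bot, inv_mul_eq_one] at hmem
      exact Subtype.ext hmem.symm
    obtain ⟨z, hz⟩ := (Finite.injective_iff_surjective.mp hinj) ⟨y, hy⟩
    exact ⟨z, z.2, (congrArg Subtype.val hz).symm⟩
  obtain ⟨f, hf, hf1⟩ := (Subgroup.bot_or_exists_ne_one F).resolve_left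
    (fun h => by have := c.D.hF; rw [h, Subgroup.card_bot] at this; omega)
  have hf3 : f ^ 3 = 1 := orderOf_dvd_iff_pow_eq_one.mp (c.D.hF ▸ Subgroup.orderOf_dvd_natCard F hf)
  have hff : f * f ≠ 1 := fun e => hf1 (by
    have : f ^ 3 = f := by rw [pow_succ, sq, e, one_mul]
    rw [← this, hf3])
  have hcube : ∀ g ∈ F, g * (g * g) = 1 := by
    intro g hg
    have h : g ^ 3 = 1 := orderOf_dvd_iff_pow_eq_one.mp (c.D.hF ▸ Subgroup.orderOf_dvd_natCard F hg)
    rwa [pow_succ', sq] at h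
  have hprod : ∀ g ∈ F, g ≠ 1 → ∀ u ∈ R, u * (g * u * g⁻¹) * (g * g * u * (g * g)⁻¹) = 1 := by
    intro g hg hg1 u hu
    obtain ⟨z, hz, rfl⟩ := hsurj g hg hg1 u hu
    calc z * (g * z * g⁻¹)⁻¹ * (g * (z * (g * z * g⁻¹)⁻¹) * g⁻¹) * (g * g * (z * (g * z * g⁻¹)⁻¹) * (g * g)⁻¹)
        = z * ((g * (g * g)) * z * (g * (g * g))⁻¹)⁻¹ := by simp [mul_assoc]
      _ = 1 := by rw [hcube g hg]; group
  have hcomm : ∀ g ∈ F, g ≠ 1 → g * g ≠ 1 → ∀ v ∈ R, v * (g * v * g⁻¹) = g * v * g⁻¹ * v := by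
    intro g hg hg1 hgg v hv
    have hg' : (g * g)⁻¹ = g := (eq_inv_of_mul_eq_one_left (hcube g hg)).symm
    have hg'' : g⁻¹ * g⁻¹ = g := by rw [← mul_inv_rev]; exact hg'
    set u := g⁻¹ * v * g with hu
    have huR : u ∈ R := by
      have := (mem_normalizer_iff.mp (c.fR.hF (inv_mem hg)) v).mp hv
      rwa [inv_inv] at this
    have h1 := hprod g hg hg1 u huR
    have h2 := hprod g⁻¹ (inv_mem hg) (by simpa using hg1) u huR
    have e1 : g * u * g⁻¹ = v := by rw [hu]; simp [mul_assoc]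
    have e2 : g * g * u * (g * g)⁻¹ = g * v * g⁻¹ := by rw [hu]; simp [mul_assoc]
    have e3 : g⁻¹ * u * g⁻¹⁻¹ = g * v * g⁻¹ := by
      calc g⁻¹ * u * g⁻¹⁻¹ = (g⁻¹ * g⁻¹) * v * (g⁻¹ * g⁻¹)⁻¹ := by rw [hu]; simp [mul_assoc]
        _ = g * v * g⁻¹ := by rw [hg'']
    have e4 : g⁻¹ * g⁻¹ * u * (g⁻¹ * g⁻¹)⁻¹ = v := by
      calc g⁻¹ * g⁻¹ * u * (g⁻¹ * g⁻¹)⁻¹ = (g * (g * g))⁻¹ * v * (g * (g * g)) := by rw [hu]; simp [mul_assoc]
        _ = v := by rw [hcube g hg, inv_one, one_mul, mul_one]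
    rw [e1, e2, mul_assoc] at h1
    rw [e3, e4, mul_assoc] at h2
    exact (eq_inv_of_mul_eq_one_right h1).trans (eq_inv_of_mul_eq_one_right h2).symm
  -- the second centre
  haveI : Group.IsNilpotent R := c.hR.isNilpotent
  set R₂ := (Subgroup.upperCentralSeries R 2).map R.subtype with hR₂def
  have hR₂R : R₂ ≤ R := map_subtype_le _
  have hZeq : ∀ z : R, z ∈ Subgroup.upperCentralSeries R 1 ↔ (z : X) ∈ Z := fun z => by
    rw [Subgroup.upperCentralSeries_one]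
    exact ⟨fun h => ⟨z, h, rfl⟩, fun ⟨y, hy, e⟩ => (Subtype.ext e : y = z) ▸ hy⟩
  have hc : ∀ x ∈ R₂, ∀ y ∈ R, ⁅x, y⁆ ∈ Z := by
    rintro _ ⟨x, hx, rfl⟩ y hy
    exact (hZeq ⁅x, ⟨y, hy⟩⁆).mp ((Subgroup.mem_upperCentralSeries_succ_iff.mp hx) ⟨y, hy⟩)
  have hnR₂ : ∀ B : Subgroup X, B ≤ normalizer (R : Set X) → B ≤ normalizer (R₂ : Set X) := fun B hB b hb =>
    GenA.MinimalAction.normalizer_map_of_characteristic _ (hB hb)
  have hkey : ∀ g ∈ F, g ≠ 1 → g * g ≠ 1 → ∀ x ∈ R₂, ∀ y ∈ R, ⁅x, g * y * g⁻¹⁆ = ⁅g * x * g⁻¹, y⁆ := by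
    intro g hg hg1 hgg x hx y hy
    set fx := g * x * g⁻¹ with hfx
    set fy := g * y * g⁻¹ with hfy
    have hfxR : fx ∈ R₂ := (mem_normalizer_iff.mp (hnR₂ F c.fR.hF hg) x).mp hx
    have hfyR : fy ∈ R := (mem_normalizer_iff.mp (c.fR.hF hg) y).mp hy
    have h0 := hcomm g hg hg1 hgg (x * y) (mul_mem (hR₂R hx) hy)
    have h1 := hcomm g hg hg1 hgg x (hR₂R hx)
    have h2 := hcomm g hg hg1 hgg y hy
    rw [show g * (x * y) * g⁻¹ = fx * fy by rw [hfx, hfy]; group] at h0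
    rw [← hfx] at h1
    rw [← hfy] at h2
    have ca := hc x hx fy hfyR
    have cb := hc fx hfxR y hy
    have hz : ∀ z ∈ Z, ∀ a ∈ R, a * z = z * a := fun z hz a ha => (mem_centralizer_iff.mp (hRZ ha) z hz).symm
    have e1 : x * fy = ⁅x, fy⁆ * fy * x := by rw [commutatorElement_def]; group
    have e2 : fx * y = ⁅fx, y⁆ * y * fx := by rw [commutatorElement_def]; group
    have h3 : (x * y) * (fx * fy) = (⁅x, fy⁆ * ⁅fx, y⁆⁻¹) * ((fx * fy) * (x * y)) := by
      have e2' : y * fx = ⁅fx, y⁆⁻¹ * fx * y := by rw [commutatorElement_def]; group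
      calc x * y * (fx * fy) = x * (y * fx) * fy := by group
        _ = x * ⁅fx, y⁆⁻¹ * fx * y * fy := by rw [e2']; group
        _ = ⁅fx, y⁆⁻¹ * (x * fx) * (y * fy) := by rw [hz _ (inv_mem cb) x (hR₂R hx)]; group
        _ = ⁅fx, y⁆⁻¹ * fx * (x * fy) * y := by rw [h1, h2]; group
        _ = ⁅fx, y⁆⁻¹ * (fx * ⁅x, fy⁆) * fy * x * y := by rw [e1]; group
        _ = ⁅fx, y⁆⁻¹ * ⁅x, fy⁆ * ((fx * fy) * (x * y)) := by rw [hz _ ca fx (hR₂R hfxR)]; group
        _ = _ := by rw [hz _ ca _ (hZR (inv_mem cb))]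
    rw [h0, right_eq_mul, mul_inv_eq_one] at h3
    exact h3
  have hR₂Z : R₂ ≤ Z := by
    intro x hx
    refine ⟨⟨x, hR₂R hx⟩, mem_center_iff.mpr fun y => Subtype.ext ?_, rfl⟩
    refine (commutatorElement_eq_one_iff_mul_comm.mp (mem_bot.mp (hD.le (mem_inf.mpr
      ⟨hZR (hc x hx y y.2), M.mem_centralizer_of_forall hZ₀1 fun K hK => ?_⟩)))).symm
    by_cases hW : V ⊓ centralizer (K : Set X) = ⊥
    · exact hker hW _
    obtain ⟨S, DS, hsup, hSK, hWS⟩ := exists_stabilizer c.D M c.l3 c.l2 c.fV hA hK hW (hmoved K hK hW)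
    set W := V ⊓ centralizer (K : Set X)
    have fR' := c.fR.change hsup
    have fV' := c.fV.change hsup
    have hRW : R ≤ normalizer (W : Set X) := le_normalizer_inf c.hRV (le_normalizer_centralizer (hRK K hK))
    obtain ⟨h, hh, hh1⟩ := (Subgroup.bot_or_exists_ne_one S).resolve_left
      (fun h => by have := DS.hH; rw [h, Subgroup.card_bot] at this; omega)
    have hgen := zpowers_eq_of_prime DS.hq DS.hH hh hh1
    have h2 : h * h = 1 := by
      rw [← sq]; exact orderOf_dvd_iff_pow_eq_one.mp (DS.hH ▸ Subgroup.orderOf_dvd_natCard S hh)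
    have hhW : h ∈ normalizer (W : Set X) := le_normalizer_inf fV'.hH (le_normalizer_centralizer hSK) hh
    have hinv := (invert_of_fpf hhW h2 fun w hw e => mem_bot.mp (hWS.le (mem_inf.mpr ⟨hw,
      mem_centralizer_iff.mpr fun y hy => by
        rw [← hgen] at hy
        obtain ⟨i, rfl⟩ := hy
        exact (Commute.zpow_left (mul_inv_eq_iff_eq_mul.mp e) i).eq⟩))).1
    set φ := W.normalizerMonoidHom with hφdef
    have hφ : ∀ (a : normalizer (W : Set X)) (w : W), (φ a w : X) = a * w * (a : X)⁻¹ := fun _ _ => rfl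
    let Φ : R →* MulAut W := φ.comp (Subgroup.inclusion hRW)
    have hRh : ∀ a ∈ R, h * a * h⁻¹ ∈ R := fun a ha => (mem_normalizer_iff.mp (fR'.hH hh) a).mp ha
    have hΦh : ∀ (a : X) (ha : a ∈ R), Φ ⟨h * a * h⁻¹, hRh a ha⟩ = Φ ⟨a, ha⟩ := by
      intro a ha
      refine MulEquiv.ext fun w => Subtype.ext ?_
      show h * a * h⁻¹ * (w : X) * (h * a * h⁻¹)⁻¹ = a * w * a⁻¹
      have hh' : h⁻¹ = h := inv_eq_of_mul_eq_one_left h2
      have e1 : h⁻¹ * (w : X) * h = (w : X)⁻¹ := by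
        have := hinv w w.2
        rw [hh'] at this ⊢
        exact this
      have e2 : a * (w : X)⁻¹ * a⁻¹ ∈ W := (mem_normalizer_iff.mp (hRW ha) _).mp (inv_mem w.2)
      calc h * a * h⁻¹ * (w : X) * (h * a * h⁻¹)⁻¹ = h * (a * (h⁻¹ * w * h) * a⁻¹) * h⁻¹ := by group
        _ = (a * (w : X)⁻¹ * a⁻¹)⁻¹ := by rw [e1, hinv _ e2]
        _ = a * w * a⁻¹ := by group
    obtain ⟨z, hz, hzy⟩ := hsurj f hf hf1 y y.2
    set x' := x
    set u := f⁻¹ * z * f with hu
    have huR : u ∈ R := by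
      have := (mem_normalizer_iff.mp (c.fR.hF (inv_mem hf)) z).mp hz
      rwa [inv_inv] at this
    have hfz : f * u * f⁻¹ = z := by rw [hu]; group
    have hffu : f * f * u * (f * f)⁻¹ = f * z * f⁻¹ := by rw [hu]; group
    have hxR := hR₂R hx
    have hm1 : f * x * f⁻¹ ∈ R := (mem_normalizer_iff.mp (c.fR.hF hf) x).mp hxR
    set x₁ := h * x * h⁻¹ with hx₁
    have hx₁R₂ : x₁ ∈ R₂ := (mem_normalizer_iff.mp (hnR₂ S fR'.hH hh) x).mp hx
    have hfinv : h * f * h⁻¹ = f * f := by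
      have hmem : h * f * h⁻¹ ∈ F := (mem_normalizer_iff.mp (DS.hHF hh) f).mp hf
      rw [← zpowers_eq_of_prime c.D.hp c.D.hF hf hf1, Subgroup.mem_zpowers_iff] at hmem
      obtain ⟨i, hi⟩ := hmem
      have hi3 : f ^ i = f ^ (i % 3) := by
        conv_lhs => rw [← Int.emod_add_mul_ediv i 3]
        rw [zpow_add, zpow_mul, zpow_ofNat, hf3, one_zpow, mul_one]
      rw [hi3] at hi
      rcases (show i % 3 = 0 ∨ i % 3 = 1 ∨ i % 3 = 2 by omega) with e | e | e <;> rw [e] at hi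
      · rw [zpow_zero] at hi
        exact absurd (conj_eq_one_iff.mp hi.symm) hf1
      · rw [zpow_one] at hi
        exfalso
        refine DS.hnc ?_
        rw [← zpowers_eq_of_prime c.D.hp c.D.hF hf hf1, ← hgen]
        refine Subgroup.zpowers_le.mpr (mem_centralizer_iff.mpr fun y hy => ?_)
        obtain ⟨j, rfl⟩ := hy
        exact (Commute.zpow_left (mul_inv_eq_iff_eq_mul.mp hi.symm).symm j).eq
      · rw [← hi, zpow_ofNat, sq]
    have hconj : h * (f * x * f⁻¹) * h⁻¹ = (f * f) * x₁ * (f * f)⁻¹ := by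
      rw [← hfinv, hx₁]; group
    have hx₂R : (f * f) * x₁ * (f * f)⁻¹ ∈ R :=
      (mem_normalizer_iff.mp (c.fR.hF (mul_mem hf hf)) x₁).mp (hR₂R hx₁R₂)
    have hff4 : f * f * (f * f) ≠ 1 := fun e => hf1 (by
      calc f = (f ^ 3)⁻¹ * (f * f * (f * f)) := by group
        _ = 1 := by rw [hf3, e, inv_one, one_mul])
    have hfzR : f * z * f⁻¹ ∈ R := (mem_normalizer_iff.mp (c.fR.hF hf) z).mp hz
    have hrel : Φ ⁅(⟨x, hxR⟩ : R), ⟨z, hz⟩⁆ = Φ ⁅(⟨x, hxR⟩ : R), ⟨f * z * f⁻¹, hfzR⟩⁆ := by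
      have k1 : ⁅x, z⁆ = ⁅f * x * f⁻¹, u⁆ := by
        rw [← hkey f hf hf1 hff x hx u huR, hfz]
      have k2 : ⁅(f * f) * x₁ * (f * f)⁻¹, u⁆ = ⁅x₁, f * z * f⁻¹⁆ := by
        rw [← hkey (f * f) (mul_mem hf hf) hff hff4 x₁ hx₁R₂ u huR, hffu]
      calc Φ ⁅(⟨x, hxR⟩ : R), ⟨z, hz⟩⁆ = Φ ⁅(⟨f * x * f⁻¹, hm1⟩ : R), ⟨u, huR⟩⁆ := congrArg Φ (Subtype.ext k1)
        _ = ⁅Φ ⟨h * (f * x * f⁻¹) * h⁻¹, hRh _ hm1⟩, Φ ⟨u, huR⟩⁆ := by rw [map_commutatorElement, hΦh _ hm1]
        _ = Φ ⁅(⟨_, hx₂R⟩ : R), ⟨u, huR⟩⁆ := by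
          rw [map_commutatorElement]
          exact congrArg (fun a => ⁅Φ a, Φ ⟨u, huR⟩⁆) (Subtype.ext hconj)
        _ = Φ ⁅(⟨_, hR₂R hx₁R₂⟩ : R), ⟨f * z * f⁻¹, hfzR⟩⁆ := congrArg Φ (Subtype.ext k2)
        _ = Φ ⁅(⟨x, hxR⟩ : R), ⟨f * z * f⁻¹, hfzR⟩⁆ := by
          rw [map_commutatorElement, map_commutatorElement, ← hΦh x hxR]
    -- bilinearity
    have hb : ∀ a ∈ R, ⁅x, a⁆ * ⁅x, (y : X)⁆ = ⁅x, (y : X) * a⁆ := by
      intro a ha
      have hcz := hc x hx a ha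
      symm
      calc ⁅x, (y : X) * a⁆ = ⁅x, (y : X)⁆ * ((y : X) * ⁅x, a⁆ * (y : X)⁻¹) := by simp only [commutatorElement_def]; group
        _ = ⁅x, (y : X)⁆ * ⁅x, a⁆ := by rw [← mem_centralizer_iff.mp (hRZ y.2) _ hcz, mul_inv_cancel_right]
        _ = ⁅x, a⁆ * ⁅x, (y : X)⁆ := (mem_centralizer_iff.mp (hRZ (hZR (hc x hx y y.2))) _ hcz).symm
    have hyz : (y : X) * (f * z * f⁻¹) = z := by rw [hzy]; group
    have hbz := hb _ hfzR
    rw [hyz] at hbz
    have hone : Φ ⁅(⟨x, hxR⟩ : R), y⁆ = 1 := by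
      have h1 : Φ ⁅(⟨x, hxR⟩ : R), ⟨f * z * f⁻¹, hfzR⟩⁆ * Φ ⁅(⟨x, hxR⟩ : R), y⁆ = Φ ⁅(⟨x, hxR⟩ : R), ⟨z, hz⟩⁆ := by
        rw [← map_mul]
        exact congrArg Φ (Subtype.ext hbz)
      rw [hrel, mul_eq_left] at h1
      exact h1
    refine mem_centralizer_iff.mpr fun w hw => ?_
    have hw' : (Φ ⁅(⟨x, hxR⟩ : R), y⁆ ⟨w, hw⟩ : X) = w := by rw [hone]; rfl
    exact (mul_inv_eq_iff_eq_mul.mp hw').symm
  -- so `R` is abelian
  have h21 : Subgroup.upperCentralSeries R 2 ≤ Subgroup.upperCentralSeries R 1 := fun z hz => (hZeq z).mpr (hR₂Z ⟨z, hz, rfl⟩)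
  have hstab : ∀ n, Subgroup.upperCentralSeries R n ≤ Subgroup.upperCentralSeries R 1 := by
    intro n
    induction n with
    | zero => simp
    | succ n ih =>
      intro z hz
      refine h21 (Subgroup.mem_upperCentralSeries_succ_iff.mpr fun y => ih ?_)
      exact (Subgroup.mem_upperCentralSeries_succ_iff.mp hz) y
  obtain ⟨n, hn⟩ := Group.IsNilpotent.nilpotent (G := R)
  refine hnt (eq_bot_iff.mpr (Subgroup.commutator_le.mpr fun a ha b hb => mem_bot.mpr ?_))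
  have hac : (⟨b, hb⟩ : R) ∈ center R := Subgroup.upperCentralSeries_one R ▸ hstab n (hn ▸ mem_top _)
  exact commutatorElement_eq_one_iff_mul_comm.mpr (congrArg Subtype.val (mem_center_iff.mp hac ⟨a, ha⟩))

theorem uptoThree : ∀ n : ℕ, UptoThree.{u} l s n := by
  intro n
  induction n with
  | zero => intro X _ _ F H R V h; omega
  | succ n ih => intro X _ _ F H R V h c; exact c.step ih (by omega)

/-- The module lemma for `S₃`. -/
theorem Three.commutator_le (c : Three F H R V l s) : ⁅R, R⁆ ≤ centralizer (V : Set X) :=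
  uptoThree _ F H R V (Nat.lt_succ_self _) c

end Cfsg.Agent.GroupStructure3.PQ
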