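import Cfsg.Agent.GroupStructure3.PQ.Action
import Cfsg.Agent.GroupStructure3.PQ.SymThreeModule

/-! A solvable group of order prime to 6 with a fixed point free `S₃` has nilpotent derived subgroup. -/

set_option autoImplicit false
set_option linter.style.haveILetI false
set_option linter.deprecated false

namespace Cfsg.Agent.GroupStructure3.PQ

open Subgroup Cfsg.Agent
open scoped commutatorElement Pointwise

universe u

variable {X : Type u} [Group X] [Finite X] {F H GG : Subgroup X}

theorem Ctx.derived_le_centralizer_pCore (C : Ctx F H GG 3 2) {s l : ℕ} (hs : s.Prime) (hl : l.Prime) (hls : l ≠ s)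
    {R : Subgroup X} (hR : IsPGroup s R) (hRG : R ≤ GG) (hRA : F ⊔ H ≤ normalizer (R : Set X)) :
    ⁅R, R⁆ ≤ centralizer (((Cfsg.pCore l GG).map GG.subtype : Subgroup X) : Set X) := by
  haveI := Fact.mk hl
  by_cases hR1 : R = ⊥
  · rw [hR1, Subgroup.commutator_bot_left]; exact bot_le
  set L := (Cfsg.pCore l GG).map GG.subtype with hLdef
  by_cases hL1 : L = ⊥
  · intro x _
    rw [hL1, Subgroup.coe_bot, mem_centralizer_iff]
    rintro _ rfl
    rw [one_mul, mul_one]
  have hLG : L ≤ GG := map_subtype_le _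
  have hL : IsPGroup l L := (Cores.pCore_isPGroup l).map _
  obtain ⟨hs3, hs2⟩ := C.ne_of_ne_bot hs hR hRG hR1
  obtain ⟨hl3, hl2⟩ := C.ne_of_ne_bot hl hL hLG hL1
  haveI : (Cfsg.pCore l GG).Characteristic := Cores.pCore_characteristic l
  have hGL : GG ≤ normalizer (L : Set X) := fun g hg =>
    GenA.MinimalAction.normalizer_map_of_characteristic _ (le_normalizer hg)
  have hAL := C.le_normalizer_char (Cfsg.pCore l GG)
  set N := (frattini L).map L.subtype
  have hnN : ∀ B : Subgroup X, B ≤ normalizer (L : Set X) → B ≤ normalizer (N : Set X) := fun B hB b hb =>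
    GenA.MinimalAction.normalizer_map_of_characteristic _ (hB hb)
  have hFN := hnN F (le_sup_left.trans hAL)
  have hHN := hnN H (le_sup_right.trans hAL)
  have hRN := hnN R (hRG.trans hGL)
  have hLN := hnN L le_normalizer
  have hcop : ∀ (S : Subgroup X), S ≤ GG → (Nat.card S).Coprime (3 * 2) := fun S hS =>
    C.cop.coprime_dvd_left (Subgroup.card_dvd_of_le hS)
  obtain ⟨hc, hpow⟩ := commutator_map_frattini hl hL
  have fL : Fpf F H L := C.fG.of_le hLG (le_sup_left.trans hAL) (le_sup_right.trans hAL)
  have fR : Fpf F H R := C.fG.of_le hRG (le_sup_left.trans hRA) (le_sup_right.trans hRA)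
  have c : Three (sec N F) (sec N H) (sec N R) (sec N L) l s :=
    { D := sec_data C.D hFN hHN (hcop N ((map_subtype_le _).trans hLG))
      hl := hl, hs := hs, ls := hls, l3 := hl3, l2 := hl2, s3 := hs3, s2 := hs2
      hV := sec_elementary hLN hc hpow
      hR := sec_isPGroup hR
      hRV := sec_le_normalizer (hRG.trans hGL)
      fV := sec_fpf C.D hFN hHN hLN fL (hcop L hLG) (isSolvable_of_isPGroup hl hL)
      fR := sec_fpf C.D hFN hHN hRN fR (hcop R hRG) (isSolvable_of_isPGroup hs hR) }
  have h := c.commutator_le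
  rw [← sec_commutator hRN hRN] at h
  have hRR : ⁅R, R⁆ ≤ R := Coprime.commutator_le_of_le_normalizer le_normalizer
  have hle : ⁅L, ⁅R, R⁆⁆ ≤ N := (commutator_le_iff_sec hLN (hRR.trans hRN)).mpr h
  refine Coprime.le_centralizer_of_frattini ((hRR.trans hRG).trans hGL)
    ((coprime_pGroups hs (hR.to_le hRR) hl hL hls.symm).coprime_dvd_right (frattini L).card_subgroup_dvd_card)
    fun a ha x hx => ?_
  rw [← commutatorElement_def, ← commutatorElement_inv]
  exact inv_mem (hle (Subgroup.commutator_mem_commutator hx ha))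

/-- A finite nilpotent group with abelian Sylow subgroups is abelian. -/
theorem commutator_eq_bot_of_abelian_sylow {G : Type u} [Group G] [Finite G] [Group.IsNilpotent G]
    (h : ∀ s : ℕ, s.Prime → ∀ P : Sylow s G, ∀ a ∈ (P : Subgroup G), ∀ b ∈ (P : Subgroup G), a * b = b * a) :
    commutator G = ⊥ := by
  rw [commutator_eq_bot_iff_center_eq_top, ← index_eq_one]
  refine Nat.eq_one_iff_not_exists_prime_dvd.mpr fun s hs hdvd => ?_
  haveI := Fact.mk hs
  obtain ⟨P⟩ : Nonempty (Sylow s G) := inferInstance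
  refine P.not_dvd_index (hdvd.trans (index_dvd_of_le fun x hx => mem_center_iff.mpr fun y => ?_))
  have htop : centralizer ({x} : Set G) = ⊤ := by
    rw [← index_eq_one]
    refine Nat.eq_one_iff_not_exists_prime_dvd.mpr fun t ht hdvd' => ?_
    haveI := Fact.mk ht
    obtain ⟨T⟩ : Nonempty (Sylow t G) := inferInstance
    refine T.not_dvd_index (hdvd'.trans (index_dvd_of_le fun z hz => mem_centralizer_singleton_iff.mpr ?_))
    by_cases hts : t = s
    · subst hts
      haveI := Sylow.unique_of_normal P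
        ((Group.isNilpotent_of_finite_tfae.out 0 3 rfl rfl).mp inferInstance t ⟨ht⟩ P)
      rw [Subsingleton.elim T P] at hz
      exact h t ht P z hz x hx
    · refine (CN.commute_of_coprime_group z x ?_).eq
      obtain ⟨a, ha⟩ := IsPGroup.iff_card.mp T.2
      obtain ⟨b, hb⟩ := IsPGroup.iff_card.mp P.2
      exact (((Nat.coprime_primes ht hs).mpr hts).pow a b).coprime_dvd_left
        (ha ▸ Subgroup.orderOf_dvd_natCard (T : Subgroup G) hz) |>.coprime_dvd_right
        (hb ▸ Subgroup.orderOf_dvd_natCard (P : Subgroup G) hx)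
  exact mem_centralizer_singleton_iff.mp (htop ▸ mem_top y)

theorem Ctx.commutator_le_fitting (C : Ctx F H GG 3 2) : commutator GG ≤ Cfsg.fittingSubgroup GG := by
  haveI := C.solv
  haveI := C.isNilpotent_quotient
  set π := QuotientGroup.mk' (Cfsg.fittingSubgroup GG)
  have hkey : commutator (GG ⧸ Cfsg.fittingSubgroup GG) = ⊥ := by
    refine commutator_eq_bot_of_abelian_sylow fun s hs P => ?_
    haveI := Fact.mk hs
    obtain ⟨R₀, hRA⟩ := Coprime.exists_invariant_sylow s (sup_le C.fG.hF C.fG.hH)
      (by rw [C.D.card_sup]; exact C.cop.symm) (Or.inr C.solv)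
    set R := (R₀ : Subgroup GG).map GG.subtype
    have hP : (P : Subgroup (GG ⧸ Cfsg.fittingSubgroup GG)) = (R₀ : Subgroup GG).map π := by
      haveI := Sylow.unique_of_normal P
        ((Group.isNilpotent_of_finite_tfae.out 0 3 rfl rfl).mp inferInstance s ⟨hs⟩ P)
      rw [Subsingleton.elim P (R₀.mapSurjective (QuotientGroup.mk'_surjective _)), Sylow.coe_mapSurjective]
    haveI : (P : Subgroup (GG ⧸ Cfsg.fittingSubgroup GG)).Normal :=
      (Group.isNilpotent_of_finite_tfae.out 0 3 rfl rfl).mp inferInstance s ⟨hs⟩ P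
    set K := (P : Subgroup (GG ⧸ Cfsg.fittingSubgroup GG)).comap π
    haveI : K.Normal := inferInstance
    have hKs : IsPGroup s (K.map π) := P.2.to_le (Subgroup.map_comap_le _ _)
    intro a ha b hb
    rw [hP] at ha hb
    obtain ⟨a, ha, rfl⟩ := ha
    obtain ⟨b, hb, rfl⟩ := hb
    rw [← commutatorElement_eq_one_iff_mul_comm, ← map_commutatorElement]
    refine (QuotientGroup.eq_one_iff _).mpr (mem_fitting_of_centralize (t := s) hKs ?_ fun l hl hls => ?_)
    · show π ⁅a, b⁆ ∈ (P : Subgroup (GG ⧸ Cfsg.fittingSubgroup GG))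
      rw [map_commutatorElement, commutatorElement_def, hP]
      exact mul_mem (mul_mem (mul_mem (Subgroup.mem_map_of_mem π ha) (Subgroup.mem_map_of_mem π hb))
        (inv_mem (Subgroup.mem_map_of_mem π ha))) (inv_mem (Subgroup.mem_map_of_mem π hb))
    · have h := C.derived_le_centralizer_pCore hs hl hls (R₀.2.map _) (map_subtype_le _) hRA
        (Subgroup.commutator_mem_commutator (Subgroup.mem_map_of_mem GG.subtype ha) (Subgroup.mem_map_of_mem GG.subtype hb))
      exact mem_centralizer_iff.mpr fun y hy =>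
        Subtype.ext (mem_centralizer_iff.mp h y (Subgroup.mem_map_of_mem GG.subtype hy))
  have hmap : (commutator GG).map π ≤ ⊥ := by
    rw [_root_.commutator_def, Subgroup.map_commutator]
    refine (Subgroup.commutator_mono le_top le_top).trans (le_of_eq ?_)
    rw [← _root_.commutator_def]
    exact hkey
  rwa [le_bot_iff, Subgroup.map_eq_bot_iff, QuotientGroup.ker_mk'] at hmap

end Cfsg.Agent.GroupStructure3.PQ
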