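import Cfsg.Agent.GroupStructure3.PQ.ModuleBase

/-! The abelian case of the minimal configuration. -/

set_option autoImplicit false
set_option linter.style.haveILetI false
set_option linter.deprecated false

namespace Cfsg.Agent.GroupStructure3.PQ

open Subgroup Cfsg.Agent
open scoped commutatorElement Pointwise IsMulCommutative

universe u

variable {X : Type u} [Group X] [Finite X] {F H Q R V : Subgroup X} {p q l t s : ℕ}

theorem Min.abelian (m : Min F H Q R V p q l t s) (hel : Cfsg.IsElementaryAbelian t Q) : False := by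
  classical
  have c := m.toCfg
  have M : EMod l t Q V := ⟨c.hl, c.ht, c.lt, hel, c.hV, c.hQV, m.fixV⟩
  have hA : F ⊔ H ≤ normalizer (Q : Set X) := sup_le c.fQ.hF c.fQ.hH
  haveI := Fact.mk c.hs
  haveI := Fact.mk c.ht
  haveI := hel.1
  have hQR0 : Q ⊓ centralizer (R : Set X) = ⊥ := by
    have h := Coprime.inf_centralizer_inf_commutator c.hRQ (coprime_pGroups c.hs c.hR c.ht c.hQ c.ts.symm)
    rwa [m.hQR, inf_eq_left.mpr inf_le_left] at h
  have hfixed := fun K (hK : Hyper t Q K) hW hF =>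
    commutator_le_of_fixed c.D M c.lp c.lq c.tp c.tq c.fV hA hK hW hF
  have hexists : ∀ S : Subgroup X, S ≤ Q → S ≠ ⊥ →
      ∃ K, Hyper t Q K ∧ V ⊓ centralizer (K : Set X) ≠ ⊥ ∧ ¬ S ≤ K := by
    intro S hS hS1
    by_contra hno
    refine hS1 (eq_bot_iff.mpr fun x hx => m.faith.le (mem_inf.mpr ⟨hS hx, M.mem_centralizer_of_forall m.hQ1 fun K hK => ?_⟩))
    by_cases hW : V ⊓ centralizer (K : Set X) = ⊥
    · rw [hW, Subgroup.coe_bot, mem_centralizer_iff]
      rintro _ rfl
      rw [one_mul, mul_one]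
    · have hle : S ≤ K := not_not.mp fun h => hno ⟨K, hK, hW, h⟩
      have := hle hx
      rw [← M.inf_centralizer_eq hK hW] at this
      exact this.2
  by_cases hC : Q ⊓ centralizer (F : Set X) = ⊥
  swap
  · set C := Q ⊓ centralizer (F : Set X) with hCdef
    obtain ⟨K₀, hK₀, hW₀, hCK₀⟩ := hexists C inf_le_left hC
    have hmoved : ∀ K, Hyper t Q K → V ⊓ centralizer (K : Set X) ≠ ⊥ → F ⊓ normalizer (K : Set X) = ⊥ → C ≤ K := by
      intro K hK hW hFK x hx
      rw [← M.inf_centralizer_eq hK hW]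
      refine ⟨hx.1, M.mem_centralizer_moved hK c.fQ.hF c.fV.hF hFK (c.hQV hx.1) (M.le_normalizer_hyper hK hx.1)
        fun v hv => ?_⟩
      exact mul_inv_eq_iff_eq_mul.mpr (mem_centralizer_iff.mp (c.fixed_Q_V hx) v hv).symm
    have hFK₀ : F ≤ normalizer (K₀ : Set X) :=
      (c.D.fixes_or_moves K₀).resolve_right fun h => hCK₀ (hmoved K₀ hK₀ hW₀ h)
    have hDK₀ : ⁅Q, F⁆ ≤ K₀ := hfixed K₀ hK₀ hW₀ hFK₀
    have hCR : R ⊓ centralizer (F : Set X) ≤ normalizer (K₀ : Set X) := by
      rw [Subgroup.le_normalizer_iff]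
      intro r hr x hx
      obtain ⟨a, ha, d, hd, rfl⟩ := decompose_F c.D c.fQ.hF c.ht c.hQ c.tp (hK₀.1 hx)
      have haK : a ∈ K₀ := by
        have := mul_mem hx (inv_mem (hDK₀ hd))
        rwa [mul_inv_cancel_right] at this
      have e : r * (a * d) * r⁻¹ = a * (r * d * r⁻¹) := by
        rw [show r * (a * d) * r⁻¹ = (r * a) * (d * r⁻¹) by group, ← mem_centralizer_iff.mp (c.fixed_R_Q hr) a ha]
        group
      rw [e]
      refine mul_mem haK (hDK₀ ?_)
      have hrn : r ∈ normalizer ((⁅Q, F⁆ : Subgroup X) : Set X) :=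
        GenA.MinimalAction.normalizer_commutator (c.hRQ hr.1) (centralizer_le_normalizer _ hr.2)
      exact (mem_normalizer_iff.mp hrn d).mp hd
    set RK := R ⊓ normalizer (K₀ : Set X) with hRK
    have hRKF : F ≤ normalizer (RK : Set X) := le_normalizer_inf c.fR.hF (hFK₀.trans le_normalizer)
    obtain ⟨x₀, hx₀, hx₀K⟩ := SetLike.not_le_iff_exists.mp hCK₀
    have hout : ∀ r ∈ R, r ∉ normalizer (K₀ : Set X) → r * x₀ * r⁻¹ ∈ K₀ := by
      intro r hr hrn
      have key : ∀ g ∈ R, g ∉ normalizer (K₀ : Set X) → C ≤ MulAut.conj g • K₀ := by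
        intro g hg hgn
        refine hmoved _ (hK₀.conj (c.hRQ hg)) (conj_supported (c.hRV hg) hW₀)
          ((c.D.fixes_or_moves _).resolve_left fun hFg => hgn ?_)
        obtain ⟨n, hn, hgnC⟩ := Coprime.exists_fixed_in_coset (k := g) hRKF
          ((coprime_F c.D c.hs c.hR c.sp).coprime_dvd_right (Subgroup.card_dvd_of_le inf_le_left))
          (Or.inl c.D.solvable_F) (fun f hf => by
            refine mem_inf.mpr ⟨mul_mem (inv_mem hg) ((Subgroup.le_normalizer_iff.mp c.fR.hF) f hf g hg), ?_⟩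
            rw [← Coprime.conj_smul_eq_self_iff, Coprime.conj_smul_mul, Coprime.conj_smul_mul,
              Coprime.conj_smul_mul, Coprime.conj_smul_eq_self_iff.mpr (hFK₀ (inv_mem hf)),
              Coprime.conj_smul_eq_self_iff.mpr (hFg hf), Coprime.conj_inv_smul_smul])
        have h1 : g * n ∈ normalizer (K₀ : Set X) := hCR ⟨mul_mem hg hn.1, hgnC⟩
        have h2 := mul_mem h1 (inv_mem hn.2)
        rwa [mul_inv_cancel_right] at h2
      have h := key r⁻¹ (inv_mem hr) (fun h => hrn (by simpa using inv_mem h)) hx₀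
      rw [← mem_conj_smul (a := r⁻¹)]
      rw [show r⁻¹ * (r * x₀ * r⁻¹) * r⁻¹⁻¹ = x₀ by group]
      exact h
    have hin : ∀ r ∈ R, r ∈ normalizer (K₀ : Set X) → r * x₀ * r⁻¹ * x₀⁻¹ ∈ K₀ := by
      intro r hr hrn
      obtain ⟨a, ha, d, hd, rfl⟩ := decompose_F c.D hRKF c.hs (c.hR.to_le inf_le_left) c.sp
        (show r ∈ RK from ⟨hr, hrn⟩)
      have hd' := commutator_mod hK₀.1 (hK₀.2 ▸ c.ht) (M.le_normalizer_hyper hK₀) (inf_le_left.trans c.hRQ)
        inf_le_right c.fQ.hF hFK₀ (Subgroup.commutator_mem_commutator hx₀.1 hd)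
      have e : a * x₀ * a⁻¹ = x₀ :=
        mul_inv_eq_iff_eq_mul.mpr (mem_centralizer_iff.mp (c.fixed_R_Q ⟨ha.1.1, ha.2⟩) x₀ hx₀).symm
      have e2 : a * d * x₀ * (a * d)⁻¹ * x₀⁻¹ = a * ⁅x₀, d⁆⁻¹ * a⁻¹ := by
        calc a * d * x₀ * (a * d)⁻¹ * x₀⁻¹ = a * (d * x₀ * d⁻¹ * x₀⁻¹) * a⁻¹ * ((a * x₀ * a⁻¹) * x₀⁻¹) := by group
          _ = a * ⁅x₀, d⁆⁻¹ * a⁻¹ := by rw [e, commutatorElement_def]; group
      rw [e2]
      exact (mem_normalizer_iff.mp ha.1.2 _).mp (inv_mem hd')
    have : Fintype R := Fintype.ofFinite _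
    let ψ : R → (Q →* Q) := fun r => (Q.normalizerMonoidHom ⟨r, c.hRQ r.2⟩).toMonoidHom
    have hψ : ∀ (r : R) (x : Q), (ψ r x : X) = r * x * (r : X)⁻¹ := fun _ _ => rfl
    set x' : Q := ⟨x₀, hx₀.1⟩
    set u : Q := ∏ r : R, ψ r x' with hu
    have hufix : (u : X) ∈ Q ⊓ centralizer (R : Set X) := by
      refine ⟨u.2, mem_centralizer_iff.mpr fun b hb => ?_⟩
      have h : ψ ⟨b, hb⟩ u = u := by
        rw [hu, map_prod]
        refine Fintype.prod_equiv (Equiv.mulLeft (⟨b, hb⟩ : R)) _ _ fun a => Subtype.ext ?_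
        simp only [hψ, Equiv.coe_mulLeft, Subgroup.coe_mul]
        group
      have := congrArg Subtype.val h
      rw [hψ] at this
      exact mul_inv_eq_iff_eq_mul.mp this
    rw [hQR0, mem_bot] at hufix
    let π := QuotientGroup.mk' (K₀.subgroupOf Q)
    have hπ : ∀ x : Q, π x = 1 ↔ (x : X) ∈ K₀ := fun x => (QuotientGroup.eq_one_iff x).trans Iff.rfl
    have hterm : ∀ r : R, π (ψ r x') = if (r : X) ∈ normalizer (K₀ : Set X) then π x' else 1 := by
      intro r
      split_ifs with h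
      · refine mul_inv_eq_one.mp ?_
        rw [← map_inv, ← map_mul, hπ]
        exact hin r r.2 h
      · rw [hπ, hψ]
        exact hout r r.2 h
    have hprod : π u = π x' ^ Nat.card RK := by
      rw [hu, map_prod, Finset.prod_congr rfl (fun a _ => hterm a), Finset.prod_ite, Finset.prod_const_one, mul_one,
        Finset.prod_const]
      congr 1
      rw [← Fintype.card_subtype, ← Nat.card_eq_fintype_card]
      exact Nat.card_congr (Equiv.subtypeSubtypeEquivSubtypeInter (fun x : X => x ∈ R) (fun x => x ∈ normalizer (K₀ : Set X)))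
    rw [show u = 1 from Subtype.ext hufix, map_one] at hprod
    refine hx₀K ((hπ x').mp (orderOf_eq_one_iff.mp (Nat.eq_one_of_dvd_coprimes ?_
      (orderOf_dvd_of_pow_eq_one hprod.symm) (orderOf_dvd_of_pow_eq_one (?_ : π x' ^ t = 1)))))
    · exact card_coprime c.hs (c.hR.to_le inf_le_left) c.ht c.ts.symm
    · rw [← map_pow, show x' ^ t = 1 from Subtype.ext (hel.2 x₀ hx₀.1), map_one]
  · -- no fixed points of `F` on `Q`
    have hLem : ⁅R, F⁆ ≤ centralizer (Q : Set X) :=
      lem_F c.D c.ht c.hs c.ts c.tp c.sp c.sq R Q c.hR c.fR.hF hel c.fQ.hF c.hRQ hC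
    have hnR : ¬ R ≤ centralizer (Q : Set X) := fun h => m.hQ1 (by
      rw [← m.hQR]; exact Coprime.commutator_eq_bot_iff_le_centralizer'.mpr h)
    have hRF : R ≤ centralizer (F : Set X) := by
      have hn := fixF_le_normalizer c.fR c.D.hHF
      by_contra hne
      refine hnR fun r hr => ?_
      obtain ⟨a, ha, d, hd, rfl⟩ := decompose_F c.D c.fR.hF c.hs c.hR c.sp hr
      exact mul_mem (m.rmin _ (lt_of_le_of_ne inf_le_left fun h => hne (h.ge.trans inf_le_right)) hn.1 hn.2 ha) (hLem hd)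
    have hmoved : ∀ K, Hyper t Q K → V ⊓ centralizer (K : Set X) ≠ ⊥ → F ⊓ normalizer (K : Set X) = ⊥ := by
      intro K hK hW
      refine (c.D.fixes_or_moves K).resolve_left fun hF => hK.not_le c.ht fun x hx => ?_
      obtain ⟨a, ha, d, hd, rfl⟩ := decompose_F c.D c.fQ.hF c.ht c.hQ c.tp hx
      rw [hC, mem_bot] at ha
      rw [ha, one_mul]
      exact hfixed K hK hW hF hd
    obtain ⟨K, hK, hW, -⟩ := hexists Q le_rfl m.hQ1
    obtain ⟨S, DS, hsup, hSK, -⟩ := exists_stabilizer c.D M c.lp c.lq c.fV hA hK hW (hmoved K hK hW)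
    have fR' := c.fR.change hsup
    have hRS : R ≤ ⁅R, S⁆ := by
      intro r hr
      obtain ⟨a, ha, d, hd, rfl⟩ := Coprime.exists_eq_centralizer_mul_commutator fR'.hH
        (by rw [DS.hH]; exact (card_coprime c.hs c.hR c.D.hq c.sq).symm) (Or.inr (isSolvable_of_isPGroup c.hs c.hR)) hr
      rw [fR'.fix a ha.1 (hRF ha.1) ha.2, one_mul]
      exact hd
    have hRK : R ≤ normalizer (K : Set X) := by
      refine hRS.trans (Subgroup.commutator_le.mpr fun r hr h hh => ?_)
      have hxR : ⁅r, h⁆ ∈ R := Coprime.commutator_le_of_le_normalizer fR'.hH (Subgroup.commutator_mem_commutator hr hh)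
      set K'' := MulAut.conj r⁻¹ • K with hK''
      have hrV : r⁻¹ ∈ normalizer (V : Set X) := c.hRV (inv_mem hr)
      have hK''h : Hyper t Q K'' := hK.conj (c.hRQ (inv_mem hr))
      have hW'' := conj_supported hrV hW
      obtain ⟨S'', DS'', hsup'', hSK'', -⟩ :=
        exists_stabilizer c.D M c.lp c.lq c.fV hA hK''h hW'' (hmoved K'' hK''h hW'')
      have hmem : h ∈ F ⊔ S'' := hsup''.ge ((le_sup_right.trans hsup.le) hh)
      rw [← SetLike.mem_coe, coe_mul_of_right_le_normalizer_left F S'' DS''.hHF] at hmem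
      obtain ⟨f, (hf : f ∈ F), h'', (hh'' : h'' ∈ S''), rfl⟩ := hmem
      set y := f⁻¹ * ⁅r, f * h''⁆ with hy
      have hfr : f * r = r * f := mem_centralizer_iff.mp (hRF hr) f hf
      have hyK : y ∈ normalizer (K : Set X) := by
        have e : y = r * h'' * r⁻¹ * (f * h'')⁻¹ := by
          rw [hy, commutatorElement_def, ← mul_assoc r f, ← hfr]; group
        rw [e]
        refine mul_mem ?_ (inv_mem (hSK hh))
        rw [← Coprime.conj_smul_eq_self_iff, Coprime.conj_smul_mul, Coprime.conj_smul_mul, ← hK'',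
          Coprime.conj_smul_eq_self_iff.mpr (hSK'' hh''), hK'', ← Coprime.conj_smul_mul, mul_inv_cancel, map_one, one_smul]
      have hc : Commute f⁻¹ ⁅r, f * h''⁆ := (show Commute f ⁅r, f * h''⁆ from mem_centralizer_iff.mp (hRF hxR) f hf).inv_left
      have hxp : ⁅r, f * h''⁆ ^ p ∈ normalizer (K : Set X) := by
        have h1 := pow_mem hyK p
        rw [hy, hc.mul_pow, inv_pow,
          show f ^ p = 1 from c.D.hF ▸ orderOf_dvd_iff_pow_eq_one.mp (Subgroup.orderOf_dvd_natCard F hf),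
          inv_one, one_mul] at h1
        exact h1
      obtain ⟨k, hk⟩ := exists_pow_eq_self_of_coprime ((card_coprime c.hs c.hR c.D.hp c.sp).coprime_dvd_left
        (Subgroup.orderOf_dvd_natCard R hxR)).symm
      exact hk ▸ pow_mem hxp k
    have h := commutator_mod hK.1 (hK.2 ▸ c.ht) (M.le_normalizer_hyper hK) c.hRQ hRK
      ((le_sup_right.trans hsup.le).trans hA) hSK
    exact hK.not_le c.ht (m.hQR.ge.trans ((Subgroup.commutator_mono le_rfl hRS).trans h))

end Cfsg.Agent.GroupStructure3.PQ
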