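import Cfsg.Agent.GroupStructure3.PQ.Fitting
import Mathlib.GroupTheory.SemidirectProduct

/-! From an action to the configuration inside the semidirect product. -/

set_option autoImplicit false
set_option linter.style.haveILetI false
set_option linter.deprecated false

namespace Cfsg.Agent.GroupStructure3.PQ

open Subgroup Cfsg.Agent
open scoped commutatorElement Pointwise

universe u v

variable {G : Type u} [Group G] [Finite G] {A : Type v} [Group A] [Finite A] [MulDistribMulAction A G]

/-- The semidirect product of `G` by `A`. -/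
abbrev semi (G : Type u) [Group G] (A : Type v) [Group A] [MulDistribMulAction A G] :=
  G ⋊[MulDistribMulAction.toMulAut A G] A

instance semi_finite : Finite (semi G A) := Finite.of_equiv _ SemidirectProduct.equivProd.symm

theorem exists_ctx [Group.IsSolvable G] {p q : ℕ} (hp : p.Prime) (hq : q.Prime) (hlt : q < p)
    (hA : Nat.card A = p * q) (hAna : ¬ IsMulCommutative A) (hcop : (Nat.card G).Coprime (p * q))
    (hfpf : ∀ g : G, (∀ a : A, a • g = g) → g = 1) :
    ∃ F H : Subgroup (semi G A), Ctx F H (SemidirectProduct.inl (φ := MulDistribMulAction.toMulAut A G)).range p q := by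
  haveI := Fact.mk hp
  haveI := Fact.mk hq
  have hne : p ≠ q := hlt.ne'
  have hcpq : Nat.Coprime p q := (Nat.coprime_primes hp hq).mpr hne
  obtain ⟨P⟩ : Nonempty (Sylow p A) := inferInstance
  obtain ⟨Q⟩ : Nonempty (Sylow q A) := inferInstance
  have hPc : Nat.card P = p := by
    rw [P.card_eq_multiplicity, hA, Nat.factorization_mul hp.ne_zero hq.ne_zero, Finsupp.coe_add, Pi.add_apply,
      hp.factorization_self, Nat.factorization_eq_zero_of_not_dvd (fun h => hne ((Nat.prime_dvd_prime_iff_eq hp hq).mp h)),
      add_zero, pow_one]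
  have hQc : Nat.card Q = q := by
    rw [Q.card_eq_multiplicity, hA, Nat.factorization_mul hp.ne_zero hq.ne_zero, Finsupp.coe_add, Pi.add_apply,
      hq.factorization_self, Nat.factorization_eq_zero_of_not_dvd (fun h => hne ((Nat.prime_dvd_prime_iff_eq hq hp).mp h).symm),
      zero_add, pow_one]
  have hidx : (P : Subgroup A).index = q := by
    have h := (P : Subgroup A).card_mul_index
    rw [hPc, hA] at h
    exact Nat.eq_of_mul_eq_mul_left hp.pos h
  have hsy : Nat.card (Sylow p A) = 1 := by
    have h1 : Nat.card (Sylow p A) ≤ q := Nat.le_of_dvd hq.pos (hidx ▸ P.card_dvd_index)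
    have h2 : Nat.card (Sylow p A) ≡ 1 [MOD p] := card_sylow_modEq_one p A
    exact Nat.ModEq.eq_of_lt_of_lt h2 (lt_of_le_of_lt h1 hlt) hp.one_lt
  haveI : Subsingleton (Sylow p A) := (Nat.card_eq_one_iff_unique.mp hsy).1
  haveI : (P : Subgroup A).Normal := P.normal_of_subsingleton
  have hsup : (P : Subgroup A) ⊔ (Q : Subgroup A) = ⊤ := by
    apply Subgroup.eq_top_of_card_eq
    rw [Coprime.card_sup_of_disjoint (by rw [normalizer_eq_top]; exact le_top)
      (disjoint_of_coprime_natCard (by rw [hPc, hQc]; exact hcpq)), hPc, hQc, hA]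
  have hncA : ¬ (Q : Subgroup A) ≤ centralizer ((P : Subgroup A) : Set A) := by
    intro h
    haveI : IsCyclic P := isCyclic_of_prime_card hPc
    haveI : IsCyclic Q := isCyclic_of_prime_card hQc
    letI : CommGroup P := IsCyclic.commGroup
    letI : CommGroup Q := IsCyclic.commGroup
    refine hAna ⟨⟨fun a b => ?_⟩⟩
    have hP : ∀ x : A, x ∈ centralizer ((P : Subgroup A) : Set A) := by
      intro x
      have : (P : Subgroup A) ⊔ (Q : Subgroup A) ≤ centralizer ((P : Subgroup A) : Set A) := sup_le
        (fun x hx => mem_centralizer_iff.mpr fun y hy => congrArg Subtype.val (mul_comm (⟨y, hy⟩ : P) ⟨x, hx⟩)) h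
      exact this (hsup ▸ mem_top x)
    have hQ : ∀ x : A, x ∈ centralizer ((Q : Subgroup A) : Set A) := by
      intro x
      have : (P : Subgroup A) ⊔ (Q : Subgroup A) ≤ centralizer ((Q : Subgroup A) : Set A) := sup_le
        (le_centralizer_iff.mp h) (fun x hx => mem_centralizer_iff.mpr fun y hy => congrArg Subtype.val (mul_comm (⟨y, hy⟩ : Q) ⟨x, hx⟩))
      exact this (hsup ▸ mem_top x)
    have hb : (P : Subgroup A) ⊔ (Q : Subgroup A) ≤ centralizer ({b} : Set A) := sup_le
      (fun x hx => mem_centralizer_singleton_iff.mpr (mem_centralizer_iff.mp (hP b) x hx))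
      (fun x hx => mem_centralizer_singleton_iff.mpr (mem_centralizer_iff.mp (hQ b) x hx))
    exact (mem_centralizer_singleton_iff.mp (hb (hsup ▸ mem_top a)))
  set ι : A →* semi G A := SemidirectProduct.inr with hι
  set κ : G →* semi G A := SemidirectProduct.inl with hκ
  have hι1 : Function.Injective ι := SemidirectProduct.inr_injective
  have hnG : ∀ a : A, ι a ∈ normalizer ((κ.range : Subgroup (semi G A)) : Set (semi G A)) := by
    intro a
    rw [show (κ.range : Subgroup (semi G A)) = (SemidirectProduct.rightHom : semi G A →* A).ker from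
      SemidirectProduct.range_inl_eq_ker_rightHom, normalizer_eq_top]
    exact mem_top _
  refine ⟨(P : Subgroup A).map ι, (Q : Subgroup A).map ι, ⟨?_, ?_, ?_, ?_⟩⟩
  · refine ⟨hp, hq, hne, ?_, ?_, ?_, ?_⟩
    · rw [Subgroup.card_map_of_injective hι1]; exact hPc
    · rw [Subgroup.card_map_of_injective hι1]; exact hQc
    · exact (Subgroup.map_mono (by rw [normalizer_eq_top]; exact le_top)).trans (le_normalizer_map ι)
    · intro h
      refine hncA fun b hb => mem_centralizer_iff.mpr fun a ha => hι1 ?_
      rw [map_mul, map_mul]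
      exact mem_centralizer_iff.mp (h (Subgroup.mem_map_of_mem ι hb)) _ (Subgroup.mem_map_of_mem ι ha)
  · refine ⟨?_, ?_, ?_⟩
    · rintro _ ⟨a, -, rfl⟩; exact hnG a
    · rintro _ ⟨a, -, rfl⟩; exact hnG a
    · rintro _ ⟨g, rfl⟩ hF hH
      have hle : (P : Subgroup A) ⊔ (Q : Subgroup A) ≤ (centralizer ({κ g} : Set (semi G A))).comap ι := sup_le
        (fun a ha => mem_centralizer_singleton_iff.mpr (mem_centralizer_iff.mp hF _ (Subgroup.mem_map_of_mem ι ha)))
        (fun a ha => mem_centralizer_singleton_iff.mpr (mem_centralizer_iff.mp hH _ (Subgroup.mem_map_of_mem ι ha)))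
      rw [hfpf g fun a => ?_, map_one]
      have h1 : ι a * κ g = κ g * ι a := mem_centralizer_singleton_iff.mp (hle (hsup ▸ mem_top a))
      have h2 : κ (MulDistribMulAction.toMulAut A G a g) = κ g := by
        rw [hκ, SemidirectProduct.inl_aut, ← hκ, ← hι, h1, map_inv, mul_inv_cancel_right]
      exact SemidirectProduct.inl_injective h2
  · exact solvable_of_surjective κ.rangeRestrict_surjective
  · rw [← Nat.card_congr (MonoidHom.ofInjective (SemidirectProduct.inl_injective (φ := MulDistribMulAction.toMulAut A G))).toEquiv]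
    exact hcop

/-- The quotient of `G` by its Fitting subgroup is nilpotent. -/
theorem isNilpotent_quotient_fitting [Group.IsSolvable G] {p q : ℕ} (hp : p.Prime) (hq : q.Prime) (hlt : q < p)
    (hA : Nat.card A = p * q) (hAna : ¬ IsMulCommutative A) (hcop : (Nat.card G).Coprime (p * q))
    (hfpf : ∀ g : G, (∀ a : A, a • g = g) → g = 1) :
    Group.IsNilpotent (G ⧸ Cfsg.fittingSubgroup G) := by
  obtain ⟨F, H, C⟩ := exists_ctx hp hq hlt hA hAna hcop hfpf
  let e : G ≃* (SemidirectProduct.inl (φ := MulDistribMulAction.toMulAut A G)).range :=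
    MonoidHom.ofInjective SemidirectProduct.inl_injective
  haveI := C.isNilpotent_quotient
  exact Group.nilpotent_of_mulEquiv (QuotientGroup.congr _ _ e (Components.Fitting.fitting_map_equiv e)).symm

end Cfsg.Agent.GroupStructure3.PQ
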