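import Mathlib
import Cfsg.Agent.Solvable.Thompson
import Cfsg.Agent.Lib.Coprime.Commutator
import Cfsg.Agent.Lib.CN.Basic
import Cfsg.Agent.GenA.MinimalAction

/-!
A non-abelian group `F ⊔ H` of order `p q` acting coprimely without fixed points.
-/

set_option autoImplicit false
set_option linter.style.haveILetI false
set_option linter.deprecated false

namespace Cfsg.Agent.GroupStructure3.PQ

open Subgroup Cfsg.Agent
open scoped commutatorElement Pointwise

universe u v

variable {X : Type u} [Group X]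

/-- `F ⊔ H` is non-abelian of order `p q`, with `F` the normal subgroup of order `p`. -/
structure Data (F H : Subgroup X) (p q : ℕ) : Prop where
  hp : p.Prime
  hq : q.Prime
  hne : p ≠ q
  hF : Nat.card F = p
  hH : Nat.card H = q
  hHF : H ≤ normalizer (F : Set X)
  hnc : ¬ H ≤ centralizer (F : Set X)

/-- `F ⊔ H` normalizes `S` and fixes only `1` in it. -/
structure Fpf (F H S : Subgroup X) : Prop where
  hF : F ≤ normalizer (S : Set X)
  hH : H ≤ normalizer (S : Set X)
  fix : ∀ x ∈ S, x ∈ centralizer (F : Set X) → x ∈ centralizer (H : Set X) → x = 1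

variable {F H : Subgroup X} {p q : ℕ}

theorem Fpf.of_le {S T : Subgroup X} (h : Fpf F H S) (hle : T ≤ S) (hF : F ≤ normalizer (T : Set X))
    (hH : H ≤ normalizer (T : Set X)) : Fpf F H T :=
  ⟨hF, hH, fun x hx => h.fix x (hle hx)⟩

theorem Data.solvable_F [Finite X] (D : Data F H p q) : Group.IsSolvable F := by
  haveI := Fact.mk D.hp
  haveI := (IsPGroup.of_card (G := F) (n := 1) (by rw [D.hF, pow_one])).isNilpotent
  infer_instance

theorem isSolvable_of_isPGroup [Finite X] {S : Subgroup X} {r : ℕ} (hr : r.Prime) (hS : IsPGroup r S) :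
    Group.IsSolvable S := by
  haveI := Fact.mk hr
  haveI := hS.isNilpotent
  infer_instance

theorem Data.commutator_eq (D : Data F H p q) : ⁅F, H⁆ = F := by
  haveI : Finite F := Nat.finite_of_card_ne_zero (D.hF ▸ D.hp.ne_zero)
  refine Subgroup.eq_of_le_of_card_ge (Coprime.commutator_le_of_le_normalizer D.hHF) ?_
  rcases D.hp.eq_one_or_self_of_dvd _ (D.hF ▸ Subgroup.card_dvd_of_le (Coprime.commutator_le_of_le_normalizer D.hHF)) with h | h
  · exact absurd (Coprime.commutator_eq_bot_iff_le_centralizer'.mp (Subgroup.card_eq_one.mp h)) D.hnc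
  · rw [h, D.hF]

theorem zpowers_eq_of_prime {S : Subgroup X} {r : ℕ} (hr : r.Prime) (hS : Nat.card S = r) {a : X} (ha : a ∈ S)
    (ha1 : a ≠ 1) : zpowers a = S := by
  haveI : Finite S := Nat.finite_of_card_ne_zero (hS ▸ hr.ne_zero)
  refine Subgroup.eq_of_le_of_card_ge (Subgroup.zpowers_le.mpr ha) ?_
  rcases hr.eq_one_or_self_of_dvd _ (hS ▸ Subgroup.card_dvd_of_le (Subgroup.zpowers_le.mpr ha)) with h | h
  · exact absurd (orderOf_eq_one_iff.mp ((Nat.card_zpowers a).symm.trans h)) ha1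
  · rw [h, hS]

theorem Data.dvd_sub_one (D : Data F H p q) : q ∣ p - 1 := by
  haveI := Fact.mk D.hp
  haveI : Finite F := Nat.finite_of_card_ne_zero (D.hF ▸ D.hp.ne_zero)
  haveI : IsCyclic F := isCyclic_of_prime_card D.hF
  haveI : Finite H := Nat.finite_of_card_ne_zero (D.hH ▸ D.hq.ne_zero)
  set φ : H →* MulAut F := F.normalizerMonoidHom.comp (inclusion D.hHF)
  have hφ : ∀ (h : H) (f : F), (φ h f : X) = h * f * (h : X)⁻¹ := fun _ _ => rfl
  have hker : φ.ker = ⊥ := by
    rcases D.hq.eq_one_or_self_of_dvd _ (D.hH ▸ φ.ker.card_subgroup_dvd_card) with h | h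
    · exact Subgroup.card_eq_one.mp h
    · refine absurd (fun h' hh' => ?_) D.hnc
      have hk : φ.ker = ⊤ := Subgroup.eq_top_of_card_eq _ (h.trans D.hH.symm)
      rw [mem_centralizer_iff]
      intro f hf
      have h1 : φ ⟨h', hh'⟩ = 1 := by
        rw [← MonoidHom.mem_ker, hk]; exact mem_top _
      have h2 : (φ ⟨h', hh'⟩ ⟨f, hf⟩ : X) = f := by rw [h1]; rfl
      rw [hφ] at h2
      exact (mul_inv_eq_iff_eq_mul.mp h2).symm
  have hd : Nat.card H ∣ Nat.card (MulAut F) := Subgroup.card_dvd_of_injective φ ((MonoidHom.ker_eq_bot_iff φ).mp hker)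
  rwa [D.hH, IsCyclic.card_mulAut, D.hF, Nat.totient_prime D.hp] at hd

/-- No prime `t` prime to `p q` can be `2` with `p` a Fermat prime. -/
theorem Data.no_fermat (D : Data F H p q) {t : ℕ} (htq : t ≠ q) : t = 2 → (∃ k : ℕ, p = 2 ^ k + 1) → False := by
  rintro rfl ⟨k, hk⟩
  have h := D.dvd_sub_one
  rw [hk, Nat.add_sub_cancel] at h
  exact htq ((Nat.prime_dvd_prime_iff_eq D.hq Nat.prime_two).mp (D.hq.dvd_of_dvd_pow h)).symm

theorem card_coprime {S : Subgroup X} [Finite X] {r a : ℕ} (hr : r.Prime) (hS : IsPGroup r S) (ha : a.Prime)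
    (hne : r ≠ a) : (Nat.card S).Coprime a := by
  haveI := Fact.mk hr
  obtain ⟨k, hk⟩ := hS.exists_card_eq
  rw [hk]
  exact ((Nat.coprime_primes hr ha).mpr hne).pow_left k

theorem coprime_pGroups [Finite X] {S T : Subgroup X} {r t : ℕ} (hr : r.Prime) (hS : IsPGroup r S) (ht : t.Prime)
    (hT : IsPGroup t T) (hne : r ≠ t) : (Nat.card S).Coprime (Nat.card T) := by
  haveI := Fact.mk hr
  haveI := Fact.mk ht
  obtain ⟨k, hk⟩ := hS.exists_card_eq
  obtain ⟨m, hm⟩ := hT.exists_card_eq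
  rw [hk, hm]
  exact ((Nat.coprime_primes hr ht).mpr hne).pow _ _

/-- Two groups of coprime order, one normalizing the other, on which a group of prime order acts
without fixed points, commute. -/
theorem commute_of_fpf [Finite X] {M N H : Subgroup X} {q : ℕ} (hq : q.Prime) (hH : Nat.card H = q)
    (hNM : N ≤ normalizer (M : Set X)) (hHM : H ≤ normalizer (M : Set X)) (hHN : H ≤ normalizer (N : Set X))
    (hcop : (Nat.card M).Coprime (Nat.card N)) (hM : M ⊓ centralizer (H : Set X) = ⊥)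
    (hN : N ⊓ centralizer (H : Set X) = ⊥) : N ≤ centralizer (M : Set X) := by
  have hH1 : H ≠ ⊥ := fun h => hq.ne_one (by rw [← hH, h, Subgroup.card_bot])
  obtain ⟨h0, hh0, hh01⟩ := (Subgroup.bot_or_exists_ne_one H).resolve_left hH1
  have hgen := zpowers_eq_of_prime hq hH hh0 hh01
  set J := M ⊔ N with hJ
  have hHJ : h0 ∈ normalizer (J : Set X) := by
    rw [hJ, ← Coprime.conj_smul_eq_self_iff, Subgroup.smul_sup, Coprime.conj_smul_eq_self_iff.mpr (hHM hh0),
      Coprime.conj_smul_eq_self_iff.mpr (hHN hh0)]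
  let φ : MulAut J := J.normalizerMonoidHom ⟨h0, hHJ⟩
  have hφ : ∀ x : J, (φ x : X) = h0 * x * h0⁻¹ := fun _ => rfl
  have hpow : φ ^ q = 1 := by
    have : (⟨h0, hHJ⟩ : normalizer (J : Set X)) ^ q = 1 := by
      refine Subtype.ext ?_
      show h0 ^ q = 1
      rw [← hH]
      exact orderOf_dvd_iff_pow_eq_one.mp (Subgroup.orderOf_dvd_natCard H hh0)
    show J.normalizerMonoidHom ⟨h0, hHJ⟩ ^ q = 1
    rw [← map_pow, this, map_one]
  have hcomm : ∀ m : X, h0 * m * h0⁻¹ = m → m ∈ centralizer (H : Set X) := by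
    intro m e
    rw [mem_centralizer_iff]
    intro y hy
    rw [← hgen] at hy
    obtain ⟨i, rfl⟩ := hy
    exact (Commute.zpow_left (mul_inv_eq_iff_eq_mul.mp e) i).eq
  have hdis := inf_eq_bot_of_coprime hcop
  have hfpf : ∀ x : J, φ x = x → x = 1 := by
    rintro ⟨x, hx⟩ e
    have e' : h0 * x * h0⁻¹ = x := congrArg Subtype.val e
    have hx' := hx
    rw [hJ, ← SetLike.mem_coe, coe_mul_of_right_le_normalizer_left M N hNM] at hx'
    obtain ⟨m, (hm : m ∈ M), n, (hn : n ∈ N), rfl⟩ := hx'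
    have hm' : h0 * m * h0⁻¹ ∈ M := (mem_normalizer_iff.mp (hHM hh0) m).mp hm
    have hn' : h0 * n * h0⁻¹ ∈ N := (mem_normalizer_iff.mp (hHN hh0) n).mp hn
    have e2 : m⁻¹ * (h0 * m * h0⁻¹) = n * (h0 * n * h0⁻¹)⁻¹ := by
      rw [eq_mul_inv_iff_mul_eq, mul_assoc m⁻¹, inv_mul_eq_iff_eq_mul]
      simpa [mul_assoc] using e'
    have h3 : m⁻¹ * (h0 * m * h0⁻¹) = 1 := mem_bot.mp (hdis.le (mem_inf.mpr ⟨mul_mem (inv_mem hm) hm', e2 ▸ mul_mem hn (inv_mem hn')⟩))
    have h4 : n * (h0 * n * h0⁻¹)⁻¹ = 1 := e2 ▸ h3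
    have hm1 : m = 1 := mem_bot.mp (hM.le ⟨hm, hcomm m (inv_mul_eq_one.mp h3).symm⟩)
    have hn1 : n = 1 := mem_bot.mp (hN.le ⟨hn, hcomm n (mul_inv_eq_one.mp h4).symm⟩)
    exact Subtype.ext (by simp [hm1, hn1])
  haveI : Group.IsNilpotent J := Solvable.Thompson.isNilpotent_of_fixedPointFree φ hq hfpf hpow
  intro n hn
  rw [mem_centralizer_iff]
  intro m hm
  refine congrArg Subtype.val (CN.commute_of_coprime_group (⟨m, mem_sup_left hm⟩ : J) ⟨n, mem_sup_right hn⟩ ?_).eq
  rw [Subgroup.orderOf_mk, Subgroup.orderOf_mk]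
  exact (hcop.coprime_dvd_left (Subgroup.orderOf_dvd_natCard M hm)).coprime_dvd_right (Subgroup.orderOf_dvd_natCard N hn)

/-- Under a subgroup normalized by everything, the fixed points of `H` on `C(F)`. -/
theorem Fpf.inf_eq_bot {S : Subgroup X} (h : Fpf F H S) :
    (S ⊓ centralizer (F : Set X)) ⊓ centralizer (H : Set X) = ⊥ :=
  eq_bot_iff.mpr fun x hx => mem_bot.mpr (h.fix x hx.1.1 hx.1.2 hx.2)

theorem le_normalizer_inf {A S T : Subgroup X} (hS : A ≤ normalizer (S : Set X)) (hT : A ≤ normalizer (T : Set X)) :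
    A ≤ normalizer ((S ⊓ T : Subgroup X) : Set X) :=
  (le_inf hS hT).trans inf_normalizer_le_normalizer_inf

theorem le_normalizer_centralizer {A S : Subgroup X} (hS : A ≤ normalizer (S : Set X)) :
    A ≤ normalizer ((centralizer (S : Set X) : Subgroup X) : Set X) :=
  fun _ ha => GenA.MinimalAction.normalizer_centralizer (hS ha)

theorem le_normalizer_commutator {A S T : Subgroup X} (hS : A ≤ normalizer (S : Set X))
    (hT : A ≤ normalizer (T : Set X)) : A ≤ normalizer ((⁅S, T⁆ : Subgroup X) : Set X) :=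
  fun _ ha => GenA.MinimalAction.normalizer_commutator (hS ha) (hT ha)

theorem le_normalizer_of_le_centralizer {A S : Subgroup X} (h : A ≤ centralizer (S : Set X)) :
    A ≤ normalizer (S : Set X) :=
  h.trans (centralizer_le_normalizer _)

theorem le_centralizer_of_mem {A S : Subgroup X} (h : ∀ a ∈ A, ∀ s ∈ S, s * a = a * s) :
    A ≤ centralizer (S : Set X) := fun a ha => mem_centralizer_iff.mpr fun s hs => h a ha s hs

end Cfsg.Agent.GroupStructure3.PQ
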