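import Cfsg.Agent.GroupStructure3.PQ.Basic
import Cfsg.Agent.Lib.Components.Hyperplane

/-!
The homogeneous components of an elementary abelian group `E` acting on an elementary abelian
module `V`: the fixed points of its hyperplanes.
-/

set_option autoImplicit false
set_option linter.style.haveILetI false
set_option linter.deprecated false

namespace Cfsg.Agent.GroupStructure3.PQ

open Subgroup Cfsg.Agent
open scoped commutatorElement Pointwise IsMulCommutative

universe u

variable {X : Type u} [Group X]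

/-- An elementary abelian `t`-group `E` acting on an elementary abelian `l`-group `V` without fixed points. -/
structure EMod (l t : ℕ) (E V : Subgroup X) : Prop where
  hl : l.Prime
  ht : t.Prime
  hne : l ≠ t
  hE : Cfsg.IsElementaryAbelian t E
  hV : Cfsg.IsElementaryAbelian l V
  hEV : E ≤ normalizer (V : Set X)
  fix : V ⊓ centralizer (E : Set X) = ⊥

/-- A subgroup of index `t` in `E`. -/
def Hyper (t : ℕ) (E K : Subgroup X) : Prop := K ≤ E ∧ K.relIndex E = t

theorem Hyper.not_le {t : ℕ} {E K : Subgroup X} (h : Hyper t E K) (ht : t.Prime) : ¬ E ≤ K := fun hle =>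
  ht.ne_one (h.2.symm.trans (Subgroup.relIndex_eq_one.mpr hle))

theorem Hyper.eq_of_le [Finite X] {t : ℕ} {E K J : Subgroup X} (h : Hyper t E K) (ht : t.Prime) (hKJ : K ≤ J)
    (hJE : J ≤ E) : J = K ∨ J = E := by
  have h1 := Subgroup.relIndex_mul_relIndex K J E hKJ hJE
  rw [h.2] at h1
  rcases ht.eq_one_or_self_of_dvd _ ⟨_, h1.symm⟩ with h2 | h2
  · exact Or.inl (le_antisymm (Subgroup.relIndex_eq_one.mp h2) hKJ)
  · refine Or.inr (le_antisymm hJE (Subgroup.relIndex_eq_one.mp ?_))
    rw [h2] at h1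
    exact (Nat.eq_of_mul_eq_mul_left ht.pos (h1.trans (mul_one t).symm))

theorem Hyper.conj {t : ℕ} {E K : Subgroup X} (h : Hyper t E K) {a : X} (ha : a ∈ normalizer (E : Set X)) :
    Hyper t E (MulAut.conj a • K) := by
  have he : MulAut.conj a • E = E := Coprime.conj_smul_eq_self_iff.mpr ha
  refine ⟨he ▸ Subgroup.pointwise_smul_le_pointwise_smul_iff.mpr h.1, ?_⟩
  conv_lhs => rw [← he]
  exact (Subgroup.relIndex_map_map_of_injective K E (MulAut.conj a).injective).trans h.2

theorem mem_conj_smul {K : Subgroup X} {a x : X} : a * x * a⁻¹ ∈ MulAut.conj a • K ↔ x ∈ K := by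
  rw [show a * x * a⁻¹ = (MulAut.conj a) • x from rfl, Subgroup.smul_mem_pointwise_smul_iff]

theorem conj_mem_inf_centralizer {V K : Subgroup X} {a w : X} (ha : a ∈ normalizer (V : Set X))
    (hw : w ∈ V ⊓ centralizer (K : Set X)) :
    a * w * a⁻¹ ∈ V ⊓ centralizer ((MulAut.conj a • K : Subgroup X) : Set X) := by
  refine ⟨(mem_normalizer_iff.mp ha w).mp hw.1, mem_centralizer_iff.mpr ?_⟩
  intro k hk
  obtain ⟨x, hx, rfl⟩ := hk
  show a * x * a⁻¹ * (a * w * a⁻¹) = a * w * a⁻¹ * (a * x * a⁻¹)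
  have := mem_centralizer_iff.mp hw.2 x hx
  simp only [mul_assoc, inv_mul_cancel_left]
  rw [← mul_assoc x, this, mul_assoc]

namespace EMod

variable {l t : ℕ} {E V K : Subgroup X}

theorem le_normalizer_hyper (M : EMod l t E V) (hK : Hyper t E K) : E ≤ normalizer (K : Set X) :=
  fun x hx => mem_normalizer_iff.mpr fun y => ⟨fun hy => by
    rwa [Components.Hyperplane.mem_comm M.hE hx (hK.1 hy), mul_inv_cancel_right], fun hy => by
    have h1 : y ∈ E := by
      have := mul_mem (mul_mem (inv_mem hx) (hK.1 hy)) hx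
      simpa [mul_assoc] using this
    rwa [Components.Hyperplane.mem_comm M.hE hx h1, mul_inv_cancel_right] at hy⟩

variable [Finite X]

theorem coprime_V (M : EMod l t E V) {A : Subgroup X} (hA : A ≤ E) : (Nat.card A).Coprime (Nat.card V) := by
  haveI := Fact.mk M.hl
  haveI := Fact.mk M.ht
  exact coprime_pGroups M.ht ((Components.Hyperplane.isPGroup M.hE).to_le hA) M.hl
    (Components.Hyperplane.isPGroup M.hV) M.hne.symm

theorem inf_commutator (M : EMod l t E V) (hK : Hyper t E K) :
    (V ⊓ centralizer (K : Set X)) ⊓ ⁅V, K⁆ = ⊥ := by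
  haveI := M.hV.1
  exact Coprime.inf_centralizer_inf_commutator (hK.1.trans M.hEV) (M.coprime_V hK.1)

/-- Within `E` exactly `K` centralizes a nontrivial component. -/
theorem inf_centralizer_eq (M : EMod l t E V) (hK : Hyper t E K) (hW : V ⊓ centralizer (K : Set X) ≠ ⊥) :
    E ⊓ centralizer ((V ⊓ centralizer (K : Set X) : Subgroup X) : Set X) = K := by
  have hle : K ≤ E ⊓ centralizer ((V ⊓ centralizer (K : Set X) : Subgroup X) : Set X) :=
    le_inf hK.1 (le_centralizer_iff.mp inf_le_right)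
  refine (hK.eq_of_le M.ht hle inf_le_left).resolve_right fun h => hW ?_
  rw [eq_bot_iff, ← M.fix]
  exact le_inf inf_le_left (le_centralizer_iff.mp (inf_eq_left.mp h))

theorem le_commutator (M : EMod l t E V) (hK : Hyper t E K) {K' : Subgroup X} (hK' : Hyper t E K') (hne : K' ≠ K) :
    V ⊓ centralizer (K' : Set X) ≤ ⁅V, K⁆ := by
  set W' := V ⊓ centralizer (K' : Set X) with hW'
  have hKW : K ≤ normalizer (W' : Set X) := le_normalizer_inf (hK.1.trans M.hEV)
    (le_normalizer_centralizer (hK.1.trans (M.le_normalizer_hyper hK')))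
  intro w hw
  haveI := Fact.mk M.hl
  obtain ⟨c, hc, x, hx, rfl⟩ := Coprime.exists_eq_centralizer_mul_commutator hKW
    ((M.coprime_V hK.1).coprime_dvd_right (Subgroup.card_dvd_of_le inf_le_left))
    (Or.inr (isSolvable_of_isPGroup M.hl ((Components.Hyperplane.isPGroup M.hV).to_le inf_le_left))) hw
  have hc1 : c ∈ V ⊓ centralizer (E : Set X) := by
    refine ⟨hc.1.1, ?_⟩
    have hsup : K' ⊔ K = E := by
      refine (hK.eq_of_le M.ht le_sup_right (sup_le hK'.1 hK.1)).resolve_left fun h => hne ?_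
      have hle : K' ≤ K := le_sup_left.trans h.le
      exact (Hyper.eq_of_le hK' M.ht hle hK.1).resolve_right (fun h' => hK.not_le M.ht h'.ge) |>.symm
    have hle : E ≤ centralizer ({c} : Set X) := hsup ▸ sup_le
      (fun k hk => mem_centralizer_singleton_iff.mpr (mem_centralizer_iff.mp hc.1.2 k hk))
      (fun k hk => mem_centralizer_singleton_iff.mpr (mem_centralizer_iff.mp hc.2 k hk))
    exact mem_centralizer_iff.mpr fun e he => mem_centralizer_singleton_iff.mp (hle he)
  rw [M.fix, mem_bot] at hc1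
  rw [hc1, one_mul]
  exact Subgroup.commutator_mono inf_le_left le_rfl hx

/-- `V` is generated by the components. -/
theorem mem_centralizer_of_forall (M : EMod l t E V) (hE1 : E ≠ ⊥) {x : X}
    (h : ∀ K, Hyper t E K → x ∈ centralizer ((V ⊓ centralizer (K : Set X) : Subgroup X) : Set X)) :
    x ∈ centralizer (V : Set X) := by
  haveI := Fact.mk M.ht
  haveI := Fact.mk M.hl
  obtain ⟨k, hk⟩ := (Components.Hyperplane.isPGroup M.hE).exists_card_eq
  by_cases h2 : t ^ 2 ≤ Nat.card E
  · have hdvd : ¬ t ∣ Nat.card V := fun hd => by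
      obtain ⟨j, hj⟩ := (Components.Hyperplane.isPGroup M.hV).exists_card_eq
      exact M.hne ((Nat.prime_dvd_prime_iff_eq M.ht M.hl).mp (M.ht.dvd_of_dvd_pow (hj ▸ hd))).symm
    have hV := Components.Hyperplane.eq_iSup_hyperplane M.hE h2 hdvd M.hEV
    have hle : V ≤ centralizer ({x} : Set X) := by
      rw [hV]
      exact iSup_le fun D v hv => mem_centralizer_singleton_iff.mpr (mem_centralizer_iff.mp (h D.1 D.2) v hv)
    exact mem_centralizer_iff.mpr fun v hv => mem_centralizer_singleton_iff.mp (hle hv)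
  · have hk1 : k = 1 := by
      rcases k with _ | _ | k
      · exact absurd (Subgroup.card_eq_one.mp (hk.trans (pow_zero t))) hE1
      · rfl
      · exact absurd (hk ▸ Nat.pow_le_pow_right M.ht.pos (by omega)) h2
    have hbot : Hyper t E ⊥ := ⟨bot_le, by rw [Subgroup.relIndex_bot_left, hk, hk1, pow_one]⟩
    refine mem_centralizer_iff.mpr fun v hv => mem_centralizer_iff.mp (h ⊥ hbot) v (mem_inf.mpr ⟨hv, ?_⟩)
    rw [mem_centralizer_iff]
    intro g hg
    rw [SetLike.mem_coe, mem_bot] at hg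
    rw [hg, one_mul, mul_one]

/-- The trace of `w` under `A` agrees modulo `⁅V, K⁆` with a power of `w`. -/
theorem trace (M : EMod l t E V) (hK : Hyper t E K) {A : Subgroup X} (hAE : A ≤ normalizer (E : Set X))
    (hAV : A ≤ normalizer (V : Set X)) {w : X} (hw : w ∈ V ⊓ centralizer (K : Set X))
    (hS : ∀ a ∈ A, a ∈ normalizer (K : Set X) → a * w = w * a) :
    ∃ u ∈ V ⊓ centralizer (A : Set X),
      u⁻¹ * w ^ Nat.card (A ⊓ normalizer (K : Set X) : Subgroup X) ∈ ⁅V, K⁆ := by
  classical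
  haveI := M.hV.1
  have : Fintype A := Fintype.ofFinite _
  let ψ : A → (V →* V) := fun a => (V.normalizerMonoidHom ⟨a, hAV a.2⟩).toMonoidHom
  have hψ : ∀ (a : A) (v : V), (ψ a v : X) = a * v * (a : X)⁻¹ := fun _ _ => rfl
  set w' : V := ⟨w, hw.1⟩
  set u : V := ∏ a : A, ψ a w' with hu
  have hfix : ∀ b : A, ψ b u = u := by
    intro b
    rw [hu, map_prod]
    refine Fintype.prod_equiv (Equiv.mulLeft b) _ _ fun a => Subtype.ext ?_
    simp only [hψ, Equiv.coe_mulLeft, Subgroup.coe_mul]
    group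
  refine ⟨u, ⟨u.2, mem_centralizer_iff.mpr fun b hb => ?_⟩, ?_⟩
  · have := congrArg Subtype.val (hfix ⟨b, hb⟩)
    rw [hψ] at this
    exact mul_inv_eq_iff_eq_mul.mp this
  · set N := (⁅V, K⁆ : Subgroup X).subgroupOf V with hN
    haveI : N.Normal := inferInstance
    let π := QuotientGroup.mk' N
    have hπ : ∀ v : V, π v = 1 ↔ (v : X) ∈ ⁅V, K⁆ := fun v => (QuotientGroup.eq_one_iff v).trans Iff.rfl
    have hterm : ∀ a : A, π (ψ a w') = if (a : X) ∈ normalizer (K : Set X) then π w' else 1 := by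
      intro a
      split_ifs with h
      · refine congrArg π (Subtype.ext ?_)
        rw [hψ]
        exact mul_inv_eq_iff_eq_mul.mpr (hS a a.2 h)
      · rw [hπ, hψ]
        exact M.le_commutator hK (hK.conj (hAE a.2)) (fun e => h (Coprime.conj_smul_eq_self_iff.mp e))
          (conj_mem_inf_centralizer (hAV a.2) hw)
    have hprod : π u = π w' ^ Nat.card (A ⊓ normalizer (K : Set X) : Subgroup X) := by
      rw [hu, map_prod, Finset.prod_congr rfl (fun a _ => hterm a), Finset.prod_ite, Finset.prod_const_one, mul_one,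
        Finset.prod_const]
      congr 1
      rw [← Fintype.card_subtype, ← Nat.card_eq_fintype_card]
      exact Nat.card_congr (Equiv.subtypeSubtypeEquivSubtypeInter (fun x : X => x ∈ A) (fun x => x ∈ normalizer (K : Set X)))
    have := (hπ (u⁻¹ * w' ^ Nat.card (A ⊓ normalizer (K : Set X) : Subgroup X))).mp (by
      rw [map_mul, map_inv, map_pow, hprod, inv_mul_cancel])
    simpa using this

/-- In a fixed point free action on `V`, the stabilizer of a component fixes nothing in it. -/
theorem inf_centralizer_stabilizer (M : EMod l t E V) (hK : Hyper t E K) {A : Subgroup X}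
    (hAE : A ≤ normalizer (E : Set X)) (hAV : A ≤ normalizer (V : Set X))
    (hA : V ⊓ centralizer (A : Set X) = ⊥) (hcop : (Nat.card A).Coprime l) :
    (V ⊓ centralizer (K : Set X)) ⊓ centralizer ((A ⊓ normalizer (K : Set X) : Subgroup X) : Set X) = ⊥ := by
  rw [eq_bot_iff]
  rintro w ⟨hw, hwS⟩
  obtain ⟨u, hu, hmem⟩ := M.trace hK hAE hAV hw
    (fun a ha han => mem_centralizer_iff.mp hwS a ⟨ha, han⟩)
  rw [hA, mem_bot] at hu
  rw [hu, inv_one, one_mul] at hmem
  have h1 : w ^ Nat.card (A ⊓ normalizer (K : Set X) : Subgroup X) ∈ (⊥ : Subgroup X) :=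
    (M.inf_commutator hK).le (mem_inf.mpr ⟨pow_mem hw _, hmem⟩)
  refine mem_bot.mpr (orderOf_eq_one_iff.mp (Nat.eq_one_of_dvd_coprimes
    (hcop.coprime_dvd_left (Subgroup.card_dvd_of_le (inf_le_left (b := normalizer (K : Set X)))))
    (orderOf_dvd_of_pow_eq_one (mem_bot.mp h1)) (orderOf_dvd_of_pow_eq_one (M.hV.2 w hw.1))))

/-- An element commuting with `F` and fixing `V ⊓ C(F)` centralizes every component moved by `F`. -/
theorem mem_centralizer_moved (M : EMod l t E V) (hK : Hyper t E K) {F : Subgroup X}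
    (hFE : F ≤ normalizer (E : Set X)) (hFV : F ≤ normalizer (V : Set X))
    (hfree : F ⊓ normalizer (K : Set X) = ⊥) {c : X} (hcV : c ∈ normalizer (V : Set X))
    (hcK : c ∈ normalizer (K : Set X)) (hcU : ∀ u ∈ V ⊓ centralizer (F : Set X), c * u * c⁻¹ = u) :
    c ∈ centralizer ((V ⊓ centralizer (K : Set X) : Subgroup X) : Set X) := by
  have hS : ∀ w : X, ∀ a ∈ F, a ∈ normalizer (K : Set X) → a * w = w * a := by
    intro w a ha han
    rw [mem_bot.mp (hfree.le (mem_inf.mpr ⟨ha, han⟩)), one_mul, mul_one]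
  have hcard : Nat.card (F ⊓ normalizer (K : Set X) : Subgroup X) = 1 := by rw [hfree, Subgroup.card_bot]
  rw [mem_centralizer_iff]
  intro w hw
  obtain ⟨u, hu, hmem⟩ := M.trace hK hFE hFV hw (hS w)
  rw [hcard, pow_one] at hmem
  have hcw : c * w * c⁻¹ ∈ V ⊓ centralizer (K : Set X) := by
    have := conj_mem_inf_centralizer hcV hw
    rwa [Coprime.conj_smul_eq_self_iff.mpr hcK] at this
  have hcN : c ∈ normalizer ((⁅V, K⁆ : Subgroup X) : Set X) := GenA.MinimalAction.normalizer_commutator hcV hcK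
  have h1 : c * (u⁻¹ * w) * c⁻¹ ∈ ⁅V, K⁆ := (mem_normalizer_iff.mp hcN _).mp hmem
  have h2 : w⁻¹ * (c * w * c⁻¹) ∈ ⁅V, K⁆ := by
    have e : c * (u⁻¹ * w) * c⁻¹ = u⁻¹ * (c * w * c⁻¹) := by
      conv_rhs => rw [← hcU u hu]
      group
    rw [e] at h1
    have := mul_mem (inv_mem hmem) h1
    rw [mul_inv_rev, inv_inv, mul_assoc, mul_inv_cancel_left] at this
    exact this
  have h3 := mem_bot.mp ((M.inf_commutator hK).le (mem_inf.mpr ⟨mul_mem (inv_mem hw) hcw, h2⟩))
  exact (mul_inv_eq_iff_eq_mul.mp (inv_mul_eq_one.mp h3).symm).symm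

end EMod

end Cfsg.Agent.GroupStructure3.PQ
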