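import Cfsg.Agent.Solvable.Fitting
import Cfsg.Agent.Lib.Coprime.PGroup

/-! Consequences of Sylow subgroups centralizing the cores of other primes. -/

set_option autoImplicit false
set_option linter.style.haveILetI false
set_option linter.deprecated false

namespace Cfsg.Agent.GroupStructure3.PQ

open Subgroup Cfsg.Agent
open scoped commutatorElement Pointwise

universe u

variable {G : Type u} [Group G] [Finite G]

/-- The join of the cores of the primes other than `t`. -/
def otherCores (t : ℕ) (G : Type u) [Group G] : Subgroup G :=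
  ⨆ l : {l : ℕ // l.Prime ∧ l ≠ t}, Cfsg.pCore (l : ℕ) G

instance otherCores_normal (t : ℕ) : (otherCores t G).Normal := by
  unfold otherCores
  exact Subgroup.normalClosure_eq_self (⨆ l : {l : ℕ // l.Prime ∧ l ≠ t}, Cfsg.pCore (l : ℕ) G) ▸ inferInstance

theorem fitting_le_sup_otherCores (t : ℕ) [Fact t.Prime] :
    Cfsg.fittingSubgroup G ≤ Cfsg.pCore t G ⊔ otherCores t G := by
  rw [Components.Fitting.fitting_eq_coreJoin]
  refine iSup_le fun ⟨l, hl⟩ => ?_
  by_cases h : l = t
  · subst h; exact le_sup_left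
  · exact le_trans (le_iSup_of_le (⟨l, hl, h⟩ : {l : ℕ // l.Prime ∧ l ≠ t}) le_rfl) le_sup_right

theorem otherCores_le_fitting (t : ℕ) : otherCores t G ≤ Cfsg.fittingSubgroup G := by
  refine iSup_le fun ⟨l, hl, _⟩ => ?_
  haveI := Fact.mk hl
  exact Components.Fitting.pCore_le_fitting l

theorem otherCores_coprime (t : ℕ) [ht : Fact t.Prime] : (Nat.card (otherCores t G)).Coprime t := by
  have h : otherCores t G ≤ Cfsg.pPrimeCore t G := iSup_le fun ⟨l, hl, hne⟩ => by
    haveI := Fact.mk hl
    obtain ⟨k, hk⟩ := IsPGroup.iff_card.mp (Cores.pCore_isPGroup (G := G) l)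
    exact Cores.le_pPrimeCore (by
      show (Nat.card (Cfsg.pCore l G)).Coprime t
      rw [hk]; exact ((Nat.coprime_primes hl ht.out).mpr hne).pow_left k)
  exact (Cores.pPrimeCore_card_coprime t).coprime_dvd_left (Subgroup.card_dvd_of_le h)

/-- A `t`-element of a normal subgroup that is a `t`-group modulo the Fitting subgroup lies in the Fitting
subgroup when it centralizes the cores of the other primes. -/
theorem mem_fitting_of_centralize {t : ℕ} [ht : Fact t.Prime] {K : Subgroup G} [K.Normal]
    (hK : IsPGroup t (K.map (QuotientGroup.mk' (Cfsg.fittingSubgroup G)))) {x : G} (hxK : x ∈ K)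
    (hx : ∀ l : ℕ, l.Prime → l ≠ t → x ∈ centralizer (Cfsg.pCore l G : Set G)) : x ∈ Cfsg.fittingSubgroup G := by
  set M := otherCores t G
  set N := centralizer (M : Set G) ⊓ K
  have hxN : x ∈ N := by
    refine mem_inf.mpr ⟨?_, hxK⟩
    have hle : M ≤ centralizer ({x} : Set G) := iSup_le fun ⟨l, hl, hne⟩ y hy =>
      mem_centralizer_singleton_iff.mpr (mem_centralizer_iff.mp (hx l hl hne) y hy)
    exact mem_centralizer_iff.mpr fun y hy => mem_centralizer_singleton_iff.mp (hle hy)
  set π := QuotientGroup.mk' M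
  have hKt : IsPGroup t (K.map π) := by
    rintro ⟨_, g, hg, rfl⟩
    obtain ⟨a, ha⟩ := hK ⟨_, Subgroup.mem_map_of_mem _ hg⟩
    have ha' : g ^ t ^ a ∈ Cfsg.fittingSubgroup G := by
      have := congrArg Subtype.val ha
      simp only [SubgroupClass.coe_pow, OneMemClass.coe_one, ← map_pow] at this
      exact (QuotientGroup.eq_one_iff _).mp this
    obtain ⟨y, hy, m, hm, hym⟩ := mem_sup_of_normal_right.mp (fitting_le_sup_otherCores t ha')
    obtain ⟨b, hb⟩ := Cores.pCore_isPGroup (G := G) t ⟨y, hy⟩
    have hb' : y ^ t ^ b = 1 := congrArg Subtype.val hb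
    refine ⟨a + b, Subtype.ext ?_⟩
    show π g ^ t ^ (a + b) = 1
    rw [pow_add, pow_mul, ← map_pow π g, ← hym, map_mul, show π m = 1 from (QuotientGroup.eq_one_iff m).mpr hm,
      mul_one, ← map_pow, hb', map_one]
  let f : N →* K.map π := (π.comp N.subtype).codRestrict _ fun n => Subgroup.mem_map_of_mem π n.2.2
  haveI : Group.IsNilpotent (K.map π) := hKt.isNilpotent
  have hnil : Group.IsNilpotent N := Subgroup.isNilpotent_of_ker_le_center f (fun n hn => by
    refine mem_center_iff.mpr fun m => Subtype.ext ?_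
    have hnM : (n : G) ∈ M := (QuotientGroup.eq_one_iff _).mp (congrArg Subtype.val (MonoidHom.mem_ker.mp hn))
    exact (mem_centralizer_iff.mp m.2.1 n hnM).symm)
  haveI : N.Normal := inferInstance
  exact Components.Fitting.le_fitting hnil hxN

/-- A solvable group in which every Sylow subgroup centralizes the cores of the other primes is nilpotent. -/
theorem isNilpotent_of_sylow_centralize [Group.IsSolvable G]
    (h : ∀ t s : ℕ, t.Prime → s.Prime → t ≠ s → ∀ P : Sylow s G,
      (P : Subgroup G) ≤ centralizer (Cfsg.pCore t G : Set G)) : Group.IsNilpotent G := by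
  refine (Group.isNilpotent_of_finite_tfae.out 0 3 rfl rfl).mpr fun s hs P => ?_
  have := hs.out
  set Fb := Cfsg.fittingSubgroup G
  set M := otherCores s G
  have hPM : (P : Subgroup G) ≤ centralizer (M : Set G) := by
    refine le_centralizer_iff.mp (iSup_le fun ⟨l, hl, hne⟩ => ?_)
    exact le_centralizer_iff.mp (h l s hl hs.out hne P)
  have hcomm : ∀ (t : ℕ), t.Prime → t ≠ s → ∀ T : Sylow t G, ⁅(P : Subgroup G), (T : Subgroup G)⁆ ≤ Fb := by
    intro t ht hts T
    refine le_trans ?_ Solvable.Fitting.centralizer_fitting_le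
    rw [Components.Fitting.fitting_eq_coreJoin]
    refine le_centralizer_iff.mp (iSup_le fun ⟨l, hl⟩ => le_centralizer_iff.mp ?_)
    show ⁅(P : Subgroup G), (T : Subgroup G)⁆ ≤ centralizer (Cfsg.pCore l G : Set G)
    by_cases h1 : l = s
    · have hT := h l t hl ht (by omega) T
      haveI : (centralizer (Cfsg.pCore l G : Set G)).Normal := inferInstance
      exact (Subgroup.commutator_mono le_rfl hT).trans (Subgroup.commutator_le_right _ _)
    · have hP := h l s hl hs.out h1 P
      exact (Subgroup.commutator_mono hP le_rfl).trans (Subgroup.commutator_le_left _ _)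
  set J := (P : Subgroup G) ⊔ M
  have hFJ : Fb ≤ J := by
    haveI := Fact.mk hs.out
    refine (fitting_le_sup_otherCores s).trans (sup_le_sup_right ?_ _)
    exact IsPGroup.le_sylow_of_normal (Cores.pCore_isPGroup s) P
  have hMs : (Nat.card M).Coprime s := otherCores_coprime s
  have hsmall : ∀ x ∈ J, ∀ n : ℕ, x ^ s ^ n = 1 → x ∈ (P : Subgroup G) := by
    intro x hx n hxn
    rw [← SetLike.mem_coe, coe_mul_of_left_le_normalizer_right (P : Subgroup G) M (normalizer_eq_top (H := M) ▸ le_top)] at hx
    obtain ⟨y, (hy : y ∈ (P : Subgroup G)), m, (hm : m ∈ M), rfl⟩ := hx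
    have hc : Commute y m := (mem_centralizer_iff.mp (hPM hy) m hm).symm
    rw [hc.mul_pow] at hxn
    obtain ⟨b, hb⟩ := P.2 ⟨y, hy⟩
    have hb' : y ^ s ^ b = 1 := congrArg Subtype.val hb
    have hm1 : m ^ s ^ (n + b) = 1 := by
      have := congrArg (fun z => z ^ s ^ b) hxn
      simp only [one_pow] at this
      rw [(hc.pow_pow (s ^ n) (s ^ n)).mul_pow, ← pow_mul, ← pow_mul, mul_comm (s ^ n) (s ^ b), pow_mul y, hb', one_pow,
        one_mul, ← pow_add, add_comm] at this
      exact this
    have : m = 1 := orderOf_eq_one_iff.mp (Nat.eq_one_of_dvd_coprimes (hMs.pow_right (n + b))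
      (Subgroup.orderOf_dvd_natCard M hm) (orderOf_dvd_of_pow_eq_one hm1))
    simpa [this] using hy
  suffices htop : normalizer ((P : Subgroup G) : Set G) = ⊤ from normalizer_eq_top_iff.mp htop
  rw [← index_eq_one]
  refine Nat.eq_one_iff_not_exists_prime_dvd.mpr fun t ht hdvd => ?_
  haveI := Fact.mk ht
  obtain ⟨T⟩ : Nonempty (Sylow t G) := inferInstance
  have hle : (T : Subgroup G) ≤ normalizer ((P : Subgroup G) : Set G) := by
    by_cases hts : t = s
    · subst hts
      exact absurd (hdvd.trans (index_dvd_of_le le_normalizer)) P.not_dvd_index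
    · rw [Subgroup.le_normalizer_iff]
      intro g hg x hx
      obtain ⟨b, hb⟩ := P.2 ⟨x, hx⟩
      have hb' : x ^ s ^ b = 1 := congrArg Subtype.val hb
      refine hsmall _ ?_ b (by rw [conj_pow, hb', mul_one, mul_inv_cancel])
      have hcm : ⁅x, g⁆ ∈ J := hFJ (hcomm t ht hts T (Subgroup.commutator_mem_commutator hx hg))
      rw [show g * x * g⁻¹ = ⁅x, g⁆⁻¹ * x by rw [commutatorElement_def]; group]
      exact mul_mem (inv_mem hcm) (mem_sup_left hx)
  exact T.not_dvd_index (hdvd.trans (index_dvd_of_le hle))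

end Cfsg.Agent.GroupStructure3.PQ
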