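import Cfsg.Agent.GroupStructure3.PQ.Tools
import Cfsg.Agent.OddLocal.FrobeniusFormula
import Cfsg.Agent.GenA.SquareCount
import Cfsg.Agent.OddLocal.ExtraspecialFixed

/-! The exceptional `2`-group with `q` a Fermat prime does not occur. -/

set_option autoImplicit false
set_option linter.style.haveILetI false
set_option linter.deprecated false

namespace Cfsg.Agent.GroupStructure3.PQ

open Subgroup Cfsg.Agent
open scoped commutatorElement Pointwise

universe u

variable {X : Type u} [Group X]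

/-- A group acted on by `S` with `R = ⁅R, S⁆` centralizes what `S` centralizes. -/
theorem le_centralizer_of_three {Q R S : Subgroup X} (hRQ : R ≤ normalizer (Q : Set X))
    (hS : S ≤ centralizer (Q : Set X)) (hR : R ≤ ⁅R, S⁆) : R ≤ centralizer (Q : Set X) := by
  have h0 : ⁅Q, S⁆ = ⊥ := Coprime.commutator_eq_bot_iff_le_centralizer'.mpr hS
  have h1 : ⁅⁅S, Q⁆, R⁆ = ⊥ := by
    rw [Subgroup.commutator_comm S Q, h0, Subgroup.commutator_bot_left]
  have h2 : ⁅⁅Q, R⁆, S⁆ = ⊥ := le_bot_iff.mp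
    ((Subgroup.commutator_mono (Coprime.commutator_le_of_le_normalizer hRQ) le_rfl).trans h0.le)
  have h3 := Subgroup.commutator_commutator_eq_bot_of_rotate h1 h2
  exact Coprime.commutator_eq_bot_iff_le_centralizer'.mp (le_bot_iff.mp (by
    rw [Subgroup.commutator_comm]; exact (Subgroup.commutator_mono hR le_rfl).trans h3.le))

theorem mem_of_le_center {D Q : Subgroup X} (h : Q ≤ centralizer (D : Set X)) {a d : X} (ha : a ∈ Q) (hd : d ∈ D) :
    d * a = a * d := mem_centralizer_iff.mp (h ha) d hd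

theorem exception [Finite X] {l s q k : ℕ} (hl : l.Prime) (hs : s.Prime) (hq : q.Prime) (hqk : q = 2 ^ k + 1)
    (hq2 : q ≠ 2) (hl2 : l ≠ 2) (hlq : l ≠ q) (hs2 : s ≠ 2) (hsq : s ≠ q) {S R Q W : Subgroup X}
    (hS : Nat.card S = q) (hQ : IsPGroup 2 Q) (hR : IsPGroup s R) (hW : Cfsg.IsElementaryAbelian l W)
    (hSR : S ≤ normalizer (R : Set X)) (hSQ : S ≤ normalizer (Q : Set X)) (hSW : S ≤ normalizer (W : Set X))
    (hRQ : R ≤ normalizer (Q : Set X)) (hQW : Q ≤ normalizer (W : Set X))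
    (faith : Q ⊓ centralizer (W : Set X) = ⊥) (hQR : ⁅Q, R⁆ = Q) (hRS : R ⊓ centralizer (S : Set X) = ⊥)
    (hfix : W ⊓ centralizer (S : Set X) = ⊥) (hD : Nat.card (⁅Q, Q⁆ : Subgroup X) = 2)
    (hsquare : ∀ x ∈ Q, x * x ∈ ⁅Q, Q⁆) : False := by
  haveI := Fact.mk Nat.prime_two
  haveI := Fact.mk hq
  have h2q : (2 : ℕ) ≠ q := fun h => hq2 h.symm
  have cSQ : (Nat.card S).Coprime (Nat.card Q) := by rw [hS]; exact (card_coprime Nat.prime_two hQ hq h2q).symm
  have cSR : (Nat.card S).Coprime (Nat.card R) := by rw [hS]; exact (card_coprime hs hR hq hsq).symm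
  have hRR : R ≤ ⁅R, S⁆ := by
    intro r hr
    obtain ⟨a, ha, d, hd, rfl⟩ := Coprime.exists_eq_centralizer_mul_commutator hSR cSR
      (Or.inr (isSolvable_of_isPGroup hs hR)) hr
    rw [hRS, mem_bot] at ha
    rw [ha, one_mul]
    exact hd
  have hQ1 : Q ≠ ⊥ := fun h => by
    rw [h, Subgroup.commutator_bot_left, Subgroup.card_bot] at hD
    omega
  have hnS : ¬ S ≤ centralizer (Q : Set X) := fun h => hQ1 (by
    rw [← hQR]
    exact Coprime.commutator_eq_bot_iff_le_centralizer'.mpr (le_centralizer_of_three hRQ h hRR))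
  set D := ⁅Q, Q⁆ with hDdef
  have hDQ : D ≤ Q := Coprime.commutator_le_of_le_normalizer le_normalizer
  have hnD : ∀ B : Subgroup X, B ≤ normalizer (Q : Set X) → B ≤ centralizer (D : Set X) := by
    intro B hB b hb
    rw [mem_centralizer_iff]
    intro d hd
    by_cases hd1 : d = 1
    · rw [hd1, one_mul, mul_one]
    have hgen := zpowers_eq_of_prime Nat.prime_two hD hd hd1
    have hbd : b * d * b⁻¹ ∈ D := (mem_normalizer_iff.mp (le_normalizer_commutator hB hB hb) d).mp hd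
    rw [← hgen, Subgroup.mem_zpowers_iff] at hbd
    obtain ⟨i, hi⟩ := hbd
    have h2 : d ^ 2 = 1 := orderOf_dvd_iff_pow_eq_one.mp (hD ▸ Subgroup.orderOf_dvd_natCard D hd)
    rcases Int.even_or_odd i with ⟨j, hj⟩ | ⟨j, hj⟩
    · exfalso
      rw [hj, ← two_mul, zpow_mul, zpow_ofNat, h2, one_zpow] at hi
      exact hd1 (conj_eq_one_iff.mp hi.symm)
    · rw [hj, zpow_add, zpow_mul, zpow_ofNat, h2, one_zpow, one_mul, zpow_one] at hi
      exact (mul_inv_eq_iff_eq_mul.mp hi.symm).symm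
  have hQD : Q ≤ centralizer (D : Set X) := hnD Q le_normalizer
  have hSD : S ≤ centralizer (D : Set X) := hnD S hSQ
  have hRD : R ≤ centralizer (D : Set X) := hnD R hRQ
  have hDn : ∀ B : Subgroup X, B ≤ normalizer (Q : Set X) → B ≤ normalizer (D : Set X) := fun B hB =>
    le_normalizer_commutator hB hB
  have hCR : Q ⊓ centralizer (R : Set X) = D :=
    le_antisymm (GenA.MinimalAction.fixed_le hRQ (coprime_pGroups hs hR Nat.prime_two hQ hs2) hQR le_rfl hDQ
      (hDn R hRQ) (hDn Q le_normalizer)) (le_inf hDQ (le_centralizer_iff.mp hRD))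
  -- the centre
  have hcen : Q ⊓ centralizer (Q : Set X) ≤ D := by
    set Zc := Q ⊓ centralizer (Q : Set X) with hZc
    have hSZ : S ≤ normalizer (Zc : Set X) := le_normalizer_inf hSQ (le_normalizer_centralizer hSQ)
    have hRZ : R ≤ normalizer (Zc : Set X) := le_normalizer_inf hRQ (le_normalizer_centralizer hRQ)
    have hab : IsMulCommutative Zc := ⟨⟨fun a b => Subtype.ext (mem_centralizer_iff.mp b.2.2 a a.2.1)⟩⟩
    have h := GenA.FixedPointFreeModule.commutator_le_centralizer hl Nat.prime_two hq hl2 hlq h2q S Zc W hS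
      (hQ.to_le inf_le_left) hSZ hW hSW (inf_le_left.trans hQW) hfix (fun _ _ => hab)
    have h2 : ⁅Zc, S⁆ = ⊥ := by
      rw [eq_bot_iff, ← faith]
      exact le_inf ((Coprime.commutator_le_of_le_normalizer hSZ).trans inf_le_left) h
    have h3 := le_centralizer_of_three hRZ (Coprime.commutator_eq_bot_iff_le_centralizer'.mp h2) hRR
    exact (le_inf inf_le_left (le_centralizer_iff.mp h3)).trans hCR.le
  -- the fixed points of `S`
  set C := Q ⊓ centralizer (S : Set X) with hCdef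
  set E := ⁅Q, S⁆ with hEdef
  have hEQ : E ≤ Q := Coprime.commutator_le_of_le_normalizer hSQ
  have hSE : S ≤ normalizer (E : Set X) := Subgroup.normalizer_commutator_ge_right Q S
  have hQE : Q ≤ normalizer (E : Set X) := Subgroup.normalizer_commutator_ge_left Q S
  have hdec : ∀ x ∈ Q, ∃ a ∈ C, ∃ b ∈ E, x = a * b := fun x hx =>
    Coprime.exists_eq_centralizer_mul_commutator hSQ cSQ (Or.inr (isSolvable_of_isPGroup Nat.prime_two hQ)) hx
  have hES : ⁅E, S⁆ = E :=
    Coprime.commutator_commutator_eq hSQ cSQ (Or.inr (isSolvable_of_isPGroup Nat.prime_two hQ))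
  have hmul : ∀ a ∈ Q, ∀ b ∈ Q, ∀ c ∈ Q, ⁅a, b * c⁆ = ⁅a, b⁆ * ⁅a, c⁆ := by
    intro a ha b hb c hc
    have hd : ⁅a, c⁆ ∈ D := Subgroup.commutator_mem_commutator ha hc
    calc ⁅a, b * c⁆ = ⁅a, b⁆ * (b * ⁅a, c⁆ * b⁻¹) := by simp only [commutatorElement_def]; group
      _ = ⁅a, b⁆ * ⁅a, c⁆ := by rw [← mem_of_le_center hQD hb hd, mul_inv_cancel_right]
  have hCE : E ≤ centralizer (C : Set X) := by
    rw [hEdef, Subgroup.commutator_le]
    intro y hy h hh
    rw [mem_centralizer_iff]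
    intro c hc
    obtain ⟨hcQ, hcS⟩ := mem_inf.mp hc
    have hy' : h * y⁻¹ * h⁻¹ ∈ Q := (mem_normalizer_iff.mp (hSQ hh) _).mp (inv_mem hy)
    have e1 : ⁅c, h * y⁻¹ * h⁻¹⁆ = ⁅c, y⁻¹⁆ := by
      have hch : h * c * h⁻¹ = c := mul_inv_eq_iff_eq_mul.mpr (mem_centralizer_iff.mp hcS h hh)
      have hd : ⁅c, y⁻¹⁆ ∈ D := Subgroup.commutator_mem_commutator hcQ (inv_mem hy)
      calc ⁅c, h * y⁻¹ * h⁻¹⁆ = ⁅h * c * h⁻¹, h * y⁻¹ * h⁻¹⁆ := by rw [hch]
        _ = h * ⁅c, y⁻¹⁆ * h⁻¹ := by simp only [commutatorElement_def]; group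
        _ = ⁅c, y⁻¹⁆ := by rw [← mem_of_le_center hSD hh hd, mul_inv_cancel_right]
    refine commutatorElement_eq_one_iff_mul_comm.mp ?_
    rw [show ⁅y, h⁆ = y * (h * y⁻¹ * h⁻¹) by rw [commutatorElement_def]; group, hmul c hcQ y hy _ hy', e1,
      ← hmul c hcQ y hy _ (inv_mem hy), mul_inv_cancel, commutatorElement_one_right]
  -- `E` is extraspecial
  have hDC : D ≤ C := le_inf hDQ (le_centralizer_iff.mp hSD)
  have hEab : ¬ IsMulCommutative E := by
    intro hab
    have h := GenA.FixedPointFreeModule.commutator_le_centralizer hl Nat.prime_two hq hl2 hlq h2q S E W hS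
      (hQ.to_le hEQ) hSE hW hSW (hEQ.trans hQW) hfix (fun _ _ => hab)
    rw [hES] at h
    exact hnS (Coprime.commutator_eq_bot_iff_le_centralizer'.mp (eq_bot_iff.mpr ((le_inf hEQ h).trans faith.le)))
  have hEE : ⁅E, E⁆ = D := by
    refine Subgroup.eq_of_le_of_card_ge (Subgroup.commutator_mono hEQ hEQ) ?_
    rw [hD]
    refine (Subgroup.one_lt_card_iff_ne_bot _).mpr fun h => hEab ⟨⟨fun a b => Subtype.ext ?_⟩⟩
    exact commutatorElement_eq_one_iff_mul_comm.mp (mem_bot.mp (h ▸ Subgroup.commutator_mem_commutator a.2 b.2))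
  have hDE : D ≤ E := hEE ▸ Coprime.commutator_le_of_le_normalizer le_normalizer
  have hCiE : C ⊓ E = D := by
    refine le_antisymm ?_ (le_inf hDC hDE)
    intro x hx
    exact GenA.MinimalAction.fixed_le hSE (cSQ.coprime_dvd_right (Subgroup.card_dvd_of_le hEQ)) hES hEE.le hDE
      (hDn S hSQ) (hEQ.trans (hDn Q le_normalizer)) (mem_inf.mpr ⟨hx.2, hx.1.2⟩)
  have hcomm : Nat.card C = 4 → False := by
    intro hc4
    have hCab : IsMulCommutative C := IsPGroup.isMulCommutative_of_card_eq_prime_sq (p := 2) (by rw [hc4]; rfl)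
    have hC : C ≤ D := by
      intro c hc
      refine hcen (mem_inf.mpr ⟨hc.1, mem_centralizer_iff.mpr fun x hx => ?_⟩)
      obtain ⟨a, ha, b, hb, rfl⟩ := hdec x hx
      have h1 : a * c = c * a := congrArg Subtype.val (hCab.is_comm.comm ⟨a, ha⟩ ⟨c, hc⟩)
      have h2 : c * b = b * c := mem_centralizer_iff.mp (hCE hb) c hc
      rw [mul_assoc, ← h2, ← mul_assoc, h1, mul_assoc]
    have := Subgroup.card_le_of_le hC
    omega
  -- `E` is extraspecial
  have hEZ : (center E).map E.subtype = D := by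
    refine le_antisymm ?_ ?_
    · rintro _ ⟨z, hz, rfl⟩
      refine hcen (mem_inf.mpr ⟨hEQ z.2, mem_centralizer_iff.mpr fun x hx => ?_⟩)
      obtain ⟨a, ha, b, hb, rfl⟩ := hdec x hx
      have h1 : a * (z : X) = z * a := mem_centralizer_iff.mp (hCE z.2) a ha
      have h2 : b * (z : X) = z * b := congrArg Subtype.val (mem_center_iff.mp hz ⟨b, hb⟩)
      show a * b * (z : X) = z * (a * b)
      rw [mul_assoc, h2, ← mul_assoc, h1, mul_assoc]
    · intro d hd
      exact ⟨⟨d, hDE hd⟩, mem_center_iff.mpr fun b => Subtype.ext (mem_of_le_center hQD (hEQ b.2) hd).symm, rfl⟩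
  have hEex : Cfsg.IsExtraspecial 2 E := by
    have hcm : ∀ g h : E, ⁅g, h⁆ ∈ center E := fun g h => mem_center_iff.mpr fun b => Subtype.ext
      (mem_of_le_center hQD (hEQ b.2) (hEE ▸ Subgroup.commutator_mem_commutator g.2 h.2 : ((⁅g, h⁆ : E) : X) ∈ D)).symm
    have hsq : ∀ g : E, g * g ∈ center E := fun g => mem_center_iff.mpr fun b => Subtype.ext
      (mem_of_le_center hQD (hEQ b.2) (hsquare g (hEQ g.2))).symm
    have hcomE : commutator E = center E := Subgroup.map_injective E.subtype_injective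
      (by rw [Subgroup.map_subtype_commutator, hEE, hEZ])
    refine ⟨⟨hQ.to_le hEQ, le_antisymm (GenA.SquareCount.frattini_le _ hsq hcm) ?_, hcomE⟩, ?_⟩
    · haveI : Group.IsNilpotent E := (hQ.to_le hEQ).isNilpotent
      exact hcomE.ge.trans (Coprime.commutator_le_frattini E)
    · rw [← Subgroup.card_map_of_injective (K := center E) E.subtype_injective, hEZ, hD]
  have hfaith : (S ⊔ E) ⊓ centralizer (W : Set X) = ⊥ := by
    rw [eq_bot_iff]
    intro g hg
    obtain ⟨hgm, hgW⟩ := mem_inf.mp hg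
    rw [← SetLike.mem_coe, coe_mul_of_left_le_normalizer_right S E hSE] at hgm
    obtain ⟨a, (ha : a ∈ S), e, (he : e ∈ E), rfl⟩ := hgm
    by_cases ha1 : a = 1
    · subst ha1
      simp only [one_mul] at hgW ⊢
      exact faith.le (mem_inf.mpr ⟨hEQ he, hgW⟩)
    exfalso
    set φ := W.normalizerMonoidHom with hφ
    have hker : ∀ x : normalizer (W : Set X), φ x = 1 ↔ (x : X) ∈ centralizer (W : Set X) := fun x => by
      constructor
      · intro h
        refine mem_centralizer_iff.mpr fun w hw => ?_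
        have h2 : (φ x ⟨w, hw⟩ : X) = w := by rw [h]; rfl
        have h3 : (x : X) * w * (x : X)⁻¹ = w := h2
        exact (mul_inv_eq_iff_eq_mul.mp h3).symm
      · intro h
        refine MulEquiv.ext fun w => Subtype.ext ?_
        show (x : X) * w * (x : X)⁻¹ = w
        exact mul_inv_eq_iff_eq_mul.mpr (mem_centralizer_iff.mp h w w.2).symm
    have hA : φ ⟨a, hSW ha⟩ * φ ⟨e, hQW (hEQ he)⟩ = 1 := by
      rw [← map_mul]; exact (hker _).mpr hgW
    obtain ⟨n, hn⟩ := hQ ⟨e, hEQ he⟩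
    have hn' : e ^ (2 : ℕ) ^ n = 1 := congrArg Subtype.val hn
    have hpow : φ ⟨a, hSW ha⟩ ^ (2 : ℕ) ^ n = 1 := by
      rw [eq_inv_of_mul_eq_one_left hA, inv_pow, ← map_pow,
        show (⟨e, hQW (hEQ he)⟩ : normalizer (W : Set X)) ^ (2 : ℕ) ^ n = 1 from Subtype.ext hn', map_one, inv_one]
    rw [← map_pow, hker] at hpow
    have hmem : a ∈ centralizer (W : Set X) := by
      obtain ⟨j, hj⟩ := exists_pow_eq_self_of_coprime (x := a) (n := (2 : ℕ) ^ n) (by
        have : orderOf a ∣ q := hS ▸ Subgroup.orderOf_dvd_natCard S ha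
        exact (((Nat.coprime_primes Nat.prime_two hq).mpr h2q).pow_left n).coprime_dvd_right this)
      exact hj ▸ pow_mem hpow j
    have hSC : S ≤ centralizer (W : Set X) := by
      rw [← zpowers_eq_of_prime hq hS ha ha1]
      exact Subgroup.zpowers_le.mpr hmem
    have hW1 : W = ⊥ := by
      rw [eq_bot_iff, ← hfix]
      exact le_inf le_rfl (le_centralizer_iff.mp hSC)
    refine hQ1 (eq_bot_iff.mpr (faith ▸ le_inf le_rfl ?_))
    intro x _
    rw [hW1, mem_centralizer_iff]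
    intro w hw
    rw [SetLike.mem_coe, mem_bot] at hw
    rw [hw, one_mul, mul_one]
  have hCES : E ⊓ centralizer (S : Set X) = (center E).map E.subtype := by
    rw [hEZ, ← hCiE]
    exact le_antisymm (fun x hx => mem_inf.mpr ⟨mem_inf.mpr ⟨hEQ hx.1, hx.2⟩, hx.1⟩)
      (fun x hx => mem_inf.mpr ⟨hx.2, hx.1.2⟩)
  obtain ⟨-, n, hn, hcardE⟩ := Cfsg.Agent.OddLocal.ExtraspecialFixed.fixed_exception hl Nat.prime_two hq hl2 hlq h2q S E W
    hS hEex hSE hCES hW hSW (hEQ.trans hQW) hfaith hfix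
  have hnk : n = k := Nat.pow_right_injective (le_refl 2) (show (2 : ℕ) ^ n = 2 ^ k by omega)
  subst hnk
  -- the formula
  have hF := Cfsg.Agent.OddLocal.FrobeniusFormula.formula (H := Q) (U := R) (E := S)
    { hEU := hSR
      fpf := fun a ha ha1 u hu e => mem_bot.mp (hRS.le (mem_inf.mpr ⟨hu, mem_centralizer_iff.mpr fun y hy => by
        rw [← zpowers_eq_of_prime hq hS ha ha1] at hy
        obtain ⟨i, rfl⟩ := hy
        exact (Commute.zpow_left e i).eq⟩))
      hUH := hRQ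
      hEH := hSQ
      solv := isSolvable_of_isPGroup Nat.prime_two hQ
      cop := Nat.Coprime.mul_right (coprime_pGroups Nat.prime_two hQ hs hR hs2.symm) cSQ.symm }
  unfold Cfsg.Agent.OddLocal.FrobeniusFormula.Formula at hF
  have hCRS : Q ⊓ centralizer ((R ⊔ S : Subgroup X) : Set X) = D := by
    refine le_antisymm (le_trans ?_ hCR.le) (le_inf hDQ (le_centralizer_iff.mp (sup_le hRD hSD)))
    exact inf_le_inf_left _ (centralizer_le (show (R : Set X) ⊆ (R ⊔ S : Subgroup X) from le_sup_left (a := R)))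
  rw [hCRS, hD, hS, hCR, hD] at hF
  -- the order of `Q`
  have hcardQ : Nat.card Q * 2 = Nat.card C * Nat.card E := by
    haveI : (E.subgroupOf Q).Normal := (normal_subgroupOf_iff_le_normalizer hEQ).mpr hQE
    have h := OddLocal.FrobeniusFormula.card_eq_inf_ker_mul (QuotientGroup.mk' (E.subgroupOf Q)) (C.subgroupOf Q)
    rw [QuotientGroup.ker_mk', card_subgroupOf inf_le_left] at h
    have h1 : Nat.card (C.subgroupOf Q ⊓ E.subgroupOf Q : Subgroup Q) = 2 := by
      rw [← hD, ← hCiE, show C.subgroupOf Q ⊓ E.subgroupOf Q = (C ⊓ E).subgroupOf Q from (Subgroup.comap_inf _ _ _).symm]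
      exact card_subgroupOf (inf_le_left.trans inf_le_left)
    have h2 : (C.subgroupOf Q).map (QuotientGroup.mk' (E.subgroupOf Q)) = ⊤ := by
      refine eq_top_iff.mpr fun y _ => ?_
      obtain ⟨⟨x, hx⟩, rfl⟩ := QuotientGroup.mk'_surjective _ y
      obtain ⟨a, ha, b, hb, rfl⟩ := hdec x hx
      refine ⟨⟨a, ha.1⟩, ha, (QuotientGroup.mk'_eq_mk' _).mpr ⟨⟨b, hEQ hb⟩, hb, rfl⟩⟩
    rw [h1, h2, Subgroup.card_top, ← Subgroup.index_eq_card] at h
    have h3 := (E.subgroupOf Q).card_mul_index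
    rw [card_subgroupOf hEQ] at h3
    rw [← h3, h]
    ring
  obtain ⟨γ, hγ⟩ := (hQ.to_le (inf_le_left : C ≤ Q)).exists_card_eq
  rw [← hCdef, hγ] at hF
  rw [hγ, hcardE] at hcardQ
  have key : q + γ + (2 * n + 1) = q * γ + 2 := by
    apply Nat.pow_right_injective (le_refl 2)
    show (2 : ℕ) ^ (q + γ + (2 * n + 1)) = 2 ^ (q * γ + 2)
    calc (2 : ℕ) ^ (q + γ + (2 * n + 1)) = 2 ^ q * (Nat.card Q * 2) := by rw [hcardQ, pow_add, pow_add]; ring
      _ = 2 * (2 ^ q * Nat.card Q) := by ring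
      _ = 2 * ((2 ^ γ) ^ q * 2) := by rw [hF]
      _ = 2 ^ (q * γ + 2) := by rw [← pow_mul, pow_add, mul_comm q γ]; ring
  have hn0 : n ≠ 0 := fun h => hq2 (by rw [hqk, h]; rfl)
  subst hqk
  have key2 : 2 ^ n + 2 * n = 2 ^ n * γ := by rw [Nat.add_mul, one_mul] at key; omega
  have h2n : 2 * n ≤ 2 ^ n := Nat.mul_le_pow (by norm_num) n
  have hγ2 : γ = 2 := by
    rcases (show γ ≤ 1 ∨ γ = 2 ∨ 3 ≤ γ by omega) with h | h | h
    · have := Nat.mul_le_mul_left (2 ^ n) h
      omega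
    · exact h
    · have := Nat.mul_le_mul_left (2 ^ n) h
      have := Nat.two_pow_pos n
      omega
  exact hcomm (by rw [hγ, hγ2]; norm_num)

end Cfsg.Agent.GroupStructure3.PQ
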