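import Cfsg.Agent.GroupStructure3.PQ.ModuleL
import Cfsg.Agent.GroupStructure3.PQ.CoreCentralized
import Cfsg.Agent.Lib.Coprime.Sylow

/-!
A solvable group of order prime to `p q` with a fixed point free group of order `p q` has nilpotent
quotient by its Fitting subgroup.
-/

set_option autoImplicit false
set_option linter.style.haveILetI false
set_option linter.deprecated false

namespace Cfsg.Agent.GroupStructure3.PQ

open Subgroup Cfsg.Agent
open scoped commutatorElement Pointwise

universe u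

variable {X : Type u} [Group X]

theorem commutator_map_frattini [Finite X] {l : ℕ} (hl : l.Prime) {S : Subgroup X} (hS : IsPGroup l S) :
    ⁅S, S⁆ ≤ (frattini S).map S.subtype ∧ ∀ x ∈ S, x ^ l ∈ (frattini S).map S.subtype := by
  haveI := Fact.mk hl
  haveI := hS.isNilpotent
  refine ⟨?_, fun x hx => ⟨⟨x, hx⟩ ^ l, Solvable.Basics.pow_mem_frattini hS ⟨x, hx⟩, rfl⟩⟩
  rw [← Subgroup.map_subtype_commutator]
  exact Subgroup.map_mono (Coprime.commutator_le_frattini S)

/-- The hypothesis: `F ⊔ H` acts without fixed points on the solvable group `GG` of order prime to `p q`. -/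
structure Ctx (F H GG : Subgroup X) (p q : ℕ) : Prop where
  D : Data F H p q
  fG : Fpf F H GG
  solv : Group.IsSolvable GG
  cop : (Nat.card GG).Coprime (p * q)

variable {F H GG : Subgroup X} {p q : ℕ}

theorem Ctx.ne_of_ne_bot [Finite X] (C : Ctx F H GG p q) {r : ℕ} (hr : r.Prime) {S : Subgroup X} (hS : IsPGroup r S)
    (hle : S ≤ GG) (hne : S ≠ ⊥) : r ≠ p ∧ r ≠ q := by
  haveI := Fact.mk hr
  obtain ⟨k, hk⟩ := hS.exists_card_eq
  have hk0 : k ≠ 0 := fun h => hne (Subgroup.card_eq_one.mp (by rw [hk, h, pow_zero]))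
  have hd : r ∣ Nat.card GG := (dvd_pow_self r hk0).trans (hk ▸ Subgroup.card_dvd_of_le hle)
  constructor <;> rintro rfl
  · exact hr.ne_one (Nat.eq_one_of_dvd_coprimes C.cop hd (dvd_mul_right _ _))
  · exact hr.ne_one (Nat.eq_one_of_dvd_coprimes C.cop hd (dvd_mul_left _ _))

theorem Ctx.le_normalizer_char (C : Ctx F H GG p q) (K : Subgroup GG) [K.Characteristic] :
    F ⊔ H ≤ normalizer ((K.map GG.subtype : Subgroup X) : Set X) :=
  fun _ ha => GenA.MinimalAction.normalizer_map_of_characteristic K ((sup_le C.fG.hF C.fG.hH) ha)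

/-- Invariant subgroups of coprime prime power orders act as commuting groups on the cores. -/
theorem Ctx.commutator_le_centralizer_pCore [Finite X] (C : Ctx F H GG p q) {t s l : ℕ} (ht : t.Prime) (hs : s.Prime)
    (hts : t ≠ s) (hl : l.Prime) (hlt : l ≠ t) {Q R : Subgroup X} (hQ : IsPGroup t Q) (hR : IsPGroup s R)
    (hQG : Q ≤ GG) (hRG : R ≤ GG) (hQA : F ⊔ H ≤ normalizer (Q : Set X)) (hRA : F ⊔ H ≤ normalizer (R : Set X))
    (hRQ : R ≤ normalizer (Q : Set X)) :
    ⁅Q, R⁆ ≤ centralizer (((Cfsg.pCore l GG).map GG.subtype : Subgroup X) : Set X) := by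
  haveI := Fact.mk hl
  by_cases hQ1 : Q = ⊥
  · rw [hQ1, Subgroup.commutator_bot_left]; exact bot_le
  by_cases hR1 : R = ⊥
  · rw [hR1, Subgroup.commutator_bot_right]; exact bot_le
  set L := (Cfsg.pCore l GG).map GG.subtype with hLdef
  by_cases hL1 : L = ⊥
  · intro x _
    rw [hL1, Subgroup.coe_bot, mem_centralizer_iff]
    rintro _ rfl
    rw [one_mul, mul_one]
  have hLG : L ≤ GG := map_subtype_le _
  have hL : IsPGroup l L := (Cores.pCore_isPGroup l).map _
  obtain ⟨htp, htq⟩ := C.ne_of_ne_bot ht hQ hQG hQ1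
  obtain ⟨hsp, hsq⟩ := C.ne_of_ne_bot hs hR hRG hR1
  obtain ⟨hlp, hlq⟩ := C.ne_of_ne_bot hl hL hLG hL1
  haveI : (Cfsg.pCore l GG).Characteristic := Cores.pCore_characteristic l
  have hGL : GG ≤ normalizer (L : Set X) := fun g hg =>
    GenA.MinimalAction.normalizer_map_of_characteristic _ (le_normalizer hg)
  have hAL := C.le_normalizer_char (Cfsg.pCore l GG)
  set N := (frattini L).map L.subtype
  have hnN : ∀ B : Subgroup X, B ≤ normalizer (L : Set X) → B ≤ normalizer (N : Set X) := fun B hB b hb =>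
    GenA.MinimalAction.normalizer_map_of_characteristic _ (hB hb)
  have hFN := hnN F (le_sup_left.trans hAL)
  have hHN := hnN H (le_sup_right.trans hAL)
  have hQN := hnN Q (hQG.trans hGL)
  have hRN := hnN R (hRG.trans hGL)
  have hLN := hnN L le_normalizer
  have hNt : IsPGroup l N := hL.to_le (map_subtype_le _)
  have hcop : ∀ (S : Subgroup X), S ≤ GG → (Nat.card S).Coprime (p * q) := fun S hS =>
    C.cop.coprime_dvd_left (Subgroup.card_dvd_of_le hS)
  obtain ⟨hc, hpow⟩ := commutator_map_frattini hl hL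
  have fL : Fpf F H L := C.fG.of_le hLG (le_sup_left.trans hAL) (le_sup_right.trans hAL)
  have fQ : Fpf F H Q := C.fG.of_le hQG (le_sup_left.trans hQA) (le_sup_right.trans hQA)
  have fR : Fpf F H R := C.fG.of_le hRG (le_sup_left.trans hRA) (le_sup_right.trans hRA)
  have c : Cfg (sec N F) (sec N H) (sec N Q) (sec N R) (sec N L) p q l t s :=
    { D := sec_data C.D hFN hHN (hcop N ((map_subtype_le _).trans hLG))
      hl := hl, ht := ht, hs := hs, lt := hlt, ts := hts, lp := hlp, lq := hlq, tp := htp, tq := htq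
      sp := hsp, sq := hsq
      hV := sec_elementary hLN hc hpow
      hQ := sec_isPGroup hQ
      hR := sec_isPGroup hR
      hQV := sec_le_normalizer (hQG.trans hGL)
      hRV := sec_le_normalizer (hRG.trans hGL)
      hRQ := sec_le_normalizer hRQ
      fV := sec_fpf C.D hFN hHN hLN fL (hcop L hLG) (isSolvable_of_isPGroup hl hL)
      fQ := sec_fpf C.D hFN hHN hQN fQ (hcop Q hQG) (isSolvable_of_isPGroup ht hQ)
      fR := sec_fpf C.D hFN hHN hRN fR (hcop R hRG) (isSolvable_of_isPGroup hs hR) }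
  have h := c.commutator_le
  rw [← sec_commutator hQN hRN] at h
  have hQR : ⁅Q, R⁆ ≤ Q := Coprime.commutator_le_of_le_normalizer hRQ
  have hle : ⁅L, ⁅Q, R⁆⁆ ≤ N := (commutator_le_iff_sec hLN (hQR.trans hQN)).mpr h
  refine Coprime.le_centralizer_of_frattini ((hQR.trans hQG).trans hGL)
    ((coprime_pGroups ht (hQ.to_le hQR) hl hL hlt.symm).coprime_dvd_right (frattini L).card_subgroup_dvd_card)
    fun a ha x hx => ?_
  rw [← commutatorElement_def, ← commutatorElement_inv]
  exact inv_mem (hle (Subgroup.commutator_mem_commutator hx ha))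

theorem core_preimage_characteristic {G : Type u} [Group G] [Finite G] (t : ℕ) [Fact t.Prime] :
    ((Cfsg.pCore t (G ⧸ Cfsg.fittingSubgroup G)).comap
      (QuotientGroup.mk' (Cfsg.fittingSubgroup G))).Characteristic := by
  set π := QuotientGroup.mk' (Cfsg.fittingSubgroup G)
  set K := (Cfsg.pCore t (G ⧸ Cfsg.fittingSubgroup G)).comap π
  rw [Subgroup.characteristic_iff_map_le]
  intro φ
  haveI : K.Normal := inferInstance
  haveI : (K.map φ.toMonoidHom).Normal := Subgroup.Normal.map inferInstance _ φ.surjective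
  haveI : ((K.map φ.toMonoidHom).map π).Normal := Subgroup.Normal.map inferInstance _ (QuotientGroup.mk'_surjective _)
  refine Subgroup.map_le_iff_le_comap.mp ?_ |> fun h => h
  refine Cores.le_pCore ?_
  rintro ⟨_, _, ⟨g, hg, rfl⟩, rfl⟩
  obtain ⟨a, ha⟩ := Cores.pCore_isPGroup (G := G ⧸ Cfsg.fittingSubgroup G) t ⟨π g, hg⟩
  refine ⟨a, Subtype.ext ?_⟩
  have ha' : g ^ t ^ a ∈ Cfsg.fittingSubgroup G := (QuotientGroup.eq_one_iff _).mp (congrArg Subtype.val ha)
  show π (φ g) ^ t ^ a = 1
  rw [← map_pow, ← map_pow]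
  refine (QuotientGroup.eq_one_iff _).mpr ?_
  exact (Subgroup.characteristic_iff_map_le.mp inferInstance φ) ⟨_, ha', rfl⟩

theorem Ctx.sylow_centralize [Finite X] (C : Ctx F H GG p q) {t s : ℕ} (ht : t.Prime) (hs : s.Prime) (hts : t ≠ s)
    (P : Sylow s (GG ⧸ Cfsg.fittingSubgroup GG)) :
    (P : Subgroup (GG ⧸ Cfsg.fittingSubgroup GG)) ≤
      centralizer (Cfsg.pCore t (GG ⧸ Cfsg.fittingSubgroup GG) : Set (GG ⧸ Cfsg.fittingSubgroup GG)) := by
  haveI := Fact.mk ht
  haveI := Fact.mk hs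
  haveI := C.solv
  set π := QuotientGroup.mk' (Cfsg.fittingSubgroup GG)
  set K := (Cfsg.pCore t (GG ⧸ Cfsg.fittingSubgroup GG)).comap π
  haveI : K.Characteristic := core_preimage_characteristic t
  set KX := K.map GG.subtype
  have hKG : KX ≤ GG := map_subtype_le _
  have hAK : F ⊔ H ≤ normalizer (KX : Set X) := C.le_normalizer_char K
  have hcop : ∀ (S : Subgroup X), S ≤ GG → (Nat.card (F ⊔ H : Subgroup X)).Coprime (Nat.card S) := fun S hS => by
    rw [C.D.card_sup]; exact (C.cop.coprime_dvd_left (Subgroup.card_dvd_of_le hS)).symm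
  obtain ⟨Q₀, hQA⟩ := Coprime.exists_invariant_sylow t hAK (hcop KX hKG)
    (Or.inr (Coprime.isSolvable_of_le hKG C.solv))
  set Q := (Q₀ : Subgroup KX).map KX.subtype
  have hQG : Q ≤ GG := (map_subtype_le _).trans hKG
  set NX := GG ⊓ normalizer (Q : Set X)
  have hAN : F ⊔ H ≤ normalizer (NX : Set X) :=
    le_normalizer_inf (sup_le C.fG.hF C.fG.hH) (hQA.trans le_normalizer)
  obtain ⟨R₀, hRA⟩ := Coprime.exists_invariant_sylow s hAN (hcop NX inf_le_left)
    (Or.inr (Coprime.isSolvable_of_le inf_le_left C.solv))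
  set R := (R₀ : Subgroup NX).map NX.subtype
  have hRG : R ≤ GG := (map_subtype_le _).trans inf_le_left
  have hRQ : R ≤ normalizer (Q : Set X) := (map_subtype_le _).trans inf_le_right
  have hQR : ⁅Q, R⁆ ≤ Q := Coprime.commutator_le_of_le_normalizer hRQ
  -- commutators lie in the Fitting subgroup
  have hKt : IsPGroup t (K.map π) := (Cores.pCore_isPGroup t).to_le (Subgroup.map_comap_le _ _)
  have hcm : ∀ a b : GG, (a : X) ∈ Q → (b : X) ∈ R → ⁅a, b⁆ ∈ Cfsg.fittingSubgroup GG := by
    intro a b ha hb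
    have hmem : (⁅a, b⁆ : GG).1 ∈ ⁅Q, R⁆ := Subgroup.commutator_mem_commutator ha hb
    refine mem_fitting_of_centralize (t := t) hKt ?_ fun l hl hlt => ?_
    · obtain ⟨y, hy, hye⟩ := (map_subtype_le (Q₀ : Subgroup KX)) (hQR hmem)
      exact (Subtype.ext hye : y = ⁅a, b⁆) ▸ hy
    · have h := C.commutator_le_centralizer_pCore ht hs hts hl hlt (Q₀.2.map _) (R₀.2.map _) hQG hRG hQA hRA hRQ hmem
      exact mem_centralizer_iff.mpr fun y hy =>
        Subtype.ext (mem_centralizer_iff.mp h y (Subgroup.mem_map_of_mem GG.subtype hy))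
  -- the Frattini argument
  haveI : (KX.subgroupOf GG).Normal := by
    rw [Subgroup.subgroupOf, Subgroup.comap_map_eq_self_of_injective GG.subtype_injective]
    infer_instance
  have hKG' : GG ≤ normalizer (KX : Set X) := fun g hg =>
    GenA.MinimalAction.normalizer_map_of_characteristic _ (le_normalizer hg)
  set QG := Q.subgroupOf GG
  let QK : Sylow t K := Sylow.ofCard (QG.subgroupOf K) (by
    rw [card_subgroupOf (show QG ≤ K from fun x hx => by
      obtain ⟨y, hy, hye⟩ := (map_subtype_le (Q₀ : Subgroup KX)) (show (x : X) ∈ Q from hx)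
      exact (Subtype.ext hye : y = x) ▸ hy), card_subgroupOf hQG, Subgroup.card_subtype, Q₀.card_eq_multiplicity,
      Nat.card_congr (K.equivMapOfInjective _ GG.subtype_injective).toEquiv.symm])
  have hQK : (QK : Subgroup K).map K.subtype = QG := by
    show ((QG.subgroupOf K : Subgroup K)).map K.subtype = QG
    refine Subgroup.map_subgroupOf_eq_of_le fun x hx => ?_
    obtain ⟨y, hy, hye⟩ := (map_subtype_le (Q₀ : Subgroup KX)) (show (x : X) ∈ Q from hx)
    exact (Subtype.ext hye : y = x) ▸ hy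
  -- images in the quotient
  have hTt : (QG.map π) = Cfsg.pCore t (GG ⧸ Cfsg.fittingSubgroup GG) := by
    let g : K →* Cfsg.pCore t (GG ⧸ Cfsg.fittingSubgroup GG) := (π.comp K.subtype).codRestrict _ fun x => x.2
    have hg : Function.Surjective g := fun ⟨y, hy⟩ => by
      obtain ⟨x, rfl⟩ := QuotientGroup.mk'_surjective _ y
      exact ⟨⟨x, hy⟩, rfl⟩
    have hcard := (QK.mapSurjective hg).card_eq_multiplicity
    have htop : ((QK.mapSurjective hg : Sylow t (Cfsg.pCore t (GG ⧸ Cfsg.fittingSubgroup GG))) :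
        Subgroup (Cfsg.pCore t (GG ⧸ Cfsg.fittingSubgroup GG))) = ⊤ :=
      Subgroup.eq_top_of_card_eq _ (by
        rw [hcard]
        obtain ⟨k, hk⟩ := IsPGroup.iff_card.mp (Cores.pCore_isPGroup (G := GG ⧸ Cfsg.fittingSubgroup GG) t)
        rw [hk, Nat.Prime.factorization_pow ht, Finsupp.single_eq_same])
    rw [Sylow.coe_mapSurjective] at htop
    have h2 := congrArg (Subgroup.map (Subgroup.subtype _)) htop
    rw [Subgroup.map_map, ← MonoidHom.range_eq_map, Subgroup.range_subtype] at h2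
    rw [← hQK, Subgroup.map_map]
    exact h2
  have hsup : normalizer (QG : Set GG) ⊔ K = ⊤ := hQK ▸ Sylow.normalizer_sup_eq_top QK
  let g : NX →* GG ⧸ Cfsg.fittingSubgroup GG := π.comp (Subgroup.inclusion inf_le_left)
  have hg : Function.Surjective g := by
    intro y
    obtain ⟨x, rfl⟩ := QuotientGroup.mk'_surjective _ y
    have hx : x ∈ normalizer (QG : Set GG) ⊔ K := hsup ▸ mem_top x
    obtain ⟨n, hn, k, hk, rfl⟩ := mem_sup_of_normal_right.mp hx
    have hQGn : n ∈ normalizer (QG : Set GG) := hn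
    have hk' : π k ∈ QG.map π := hTt ▸ hk
    obtain ⟨a, ha, hak⟩ := hk'
    have hnN : ((n * a : GG) : X) ∈ NX := by
      refine mem_inf.mpr ⟨(n * a).2, ?_⟩
      have hm : n * a ∈ normalizer (QG : Set GG) := mul_mem hQGn (le_normalizer ha)
      rw [← Subgroup.subgroupOf_normalizer_eq hQG] at hm
      exact hm
    refine ⟨⟨_, hnN⟩, ?_⟩
    show π (n * a) = π (n * k)
    rw [map_mul, map_mul, hak]
  set P₁ := R₀.mapSurjective hg
  obtain ⟨y, rfl⟩ := MulAction.exists_smul_eq (GG ⧸ Cfsg.fittingSubgroup GG) P₁ P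
  have hbase : (P₁ : Subgroup (GG ⧸ Cfsg.fittingSubgroup GG)) ≤
      centralizer (Cfsg.pCore t (GG ⧸ Cfsg.fittingSubgroup GG) : Set (GG ⧸ Cfsg.fittingSubgroup GG)) := by
    rintro _ ⟨b, hb, rfl⟩
    rw [← hTt, mem_centralizer_iff]
    rintro _ ⟨a, ha, rfl⟩
    rw [← commutatorElement_eq_one_iff_mul_comm]
    show ⁅π a, π (Subgroup.inclusion inf_le_left b)⁆ = 1
    rw [← map_commutatorElement]
    exact (QuotientGroup.eq_one_iff _).mpr (hcm _ _ ha ⟨b, hb, rfl⟩)
  rw [Sylow.coe_subgroup_smul]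
  refine (Subgroup.pointwise_smul_le_pointwise_smul_iff.mpr hbase).trans (le_of_eq ?_)
  exact Coprime.conj_smul_eq_self_iff.mpr ((normalizer_eq_top (H := centralizer
    (Cfsg.pCore t (GG ⧸ Cfsg.fittingSubgroup GG) : Set (GG ⧸ Cfsg.fittingSubgroup GG)))).symm ▸ mem_top y)

/-- The quotient by the Fitting subgroup is nilpotent. -/
theorem Ctx.isNilpotent_quotient [Finite X] (C : Ctx F H GG p q) :
    Group.IsNilpotent (GG ⧸ Cfsg.fittingSubgroup GG) := by
  haveI := C.solv
  haveI : Group.IsSolvable (GG ⧸ Cfsg.fittingSubgroup GG) := inferInstance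
  exact isNilpotent_of_sylow_centralize fun t s ht hs hts P => C.sylow_centralize ht hs hts P

end Cfsg.Agent.GroupStructure3.PQ
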