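import Cfsg.Agent.GroupStructure3.PQ.Tools

/-! The configuration of a fixed point free group of order `p q` on `R`, `Q` and a module `V`. -/

set_option autoImplicit false
set_option linter.style.haveILetI false
set_option linter.deprecated false

namespace Cfsg.Agent.GroupStructure3.PQ

open Subgroup Cfsg.Agent
open scoped commutatorElement Pointwise

universe u

variable {X : Type u} [Group X]

/-- The `s`-group `R` acts on the `t`-group `Q`, both on the module `V`, and `F ⊔ H` on all three. -/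
structure Cfg (F H Q R V : Subgroup X) (p q l t s : ℕ) : Prop where
  D : Data F H p q
  hl : l.Prime
  ht : t.Prime
  hs : s.Prime
  lt : l ≠ t
  ts : t ≠ s
  lp : l ≠ p
  lq : l ≠ q
  tp : t ≠ p
  tq : t ≠ q
  sp : s ≠ p
  sq : s ≠ q
  hV : Cfsg.IsElementaryAbelian l V
  hQ : IsPGroup t Q
  hR : IsPGroup s R
  hQV : Q ≤ normalizer (V : Set X)
  hRV : R ≤ normalizer (V : Set X)
  hRQ : R ≤ normalizer (Q : Set X)
  fV : Fpf F H V
  fQ : Fpf F H Q
  fR : Fpf F H R

/-- A minimal counterexample to `⁅Q, R⁆ ≤ C(V)`. -/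
structure Min (F H Q R V : Subgroup X) (p q l t s : ℕ) : Prop extends Cfg F H Q R V p q l t s where
  faith : Q ⊓ centralizer (V : Set X) = ⊥
  hQR : ⁅Q, R⁆ = Q
  hQ1 : Q ≠ ⊥
  fixV : V ⊓ centralizer (Q : Set X) = ⊥
  qmin : ∀ U : Subgroup X, U < Q → R ≤ normalizer (U : Set X) → F ≤ normalizer (U : Set X) →
    H ≤ normalizer (U : Set X) → R ≤ centralizer (U : Set X)
  rmin : ∀ R' : Subgroup X, R' < R → F ≤ normalizer (R' : Set X) → H ≤ normalizer (R' : Set X) →
    R' ≤ centralizer (Q : Set X)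
  vmin : ∀ W : Subgroup X, W < V → Q ≤ normalizer (W : Set X) → R ≤ normalizer (W : Set X) →
    F ≤ normalizer (W : Set X) → H ≤ normalizer (W : Set X) → W = ⊥

theorem fixF_le_normalizer {F H S : Subgroup X} (h : Fpf F H S) (hHF : H ≤ normalizer (F : Set X)) :
    F ≤ normalizer ((S ⊓ centralizer (F : Set X) : Subgroup X) : Set X) ∧
      H ≤ normalizer ((S ⊓ centralizer (F : Set X) : Subgroup X) : Set X) :=
  ⟨le_normalizer_inf h.hF (le_normalizer_centralizer le_normalizer), le_normalizer_inf h.hH (le_normalizer_centralizer hHF)⟩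

variable [Finite X] {F H Q R V : Subgroup X} {p q l t s : ℕ}

theorem Cfg.isPGroup_V (c : Cfg F H Q R V p q l t s) : IsPGroup l V :=
  haveI := Fact.mk c.hl
  Components.Hyperplane.isPGroup c.hV

theorem Cfg.fixed_Q_V (c : Cfg F H Q R V p q l t s) :
    Q ⊓ centralizer (F : Set X) ≤ centralizer ((V ⊓ centralizer (F : Set X) : Subgroup X) : Set X) :=
  commute_of_fpf c.D.hq c.D.hH
    (le_normalizer_inf (inf_le_left.trans c.hQV)
      (le_normalizer_centralizer (le_normalizer_of_le_centralizer inf_le_right)))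
    (fixF_le_normalizer c.fV c.D.hHF).2 (fixF_le_normalizer c.fQ c.D.hHF).2
    ((coprime_pGroups c.hl c.isPGroup_V c.ht c.hQ c.lt).coprime_dvd_left (Subgroup.card_dvd_of_le inf_le_left)
      |>.coprime_dvd_right (Subgroup.card_dvd_of_le inf_le_left))
    c.fV.inf_eq_bot c.fQ.inf_eq_bot

theorem Cfg.fixed_R_Q (c : Cfg F H Q R V p q l t s) :
    R ⊓ centralizer (F : Set X) ≤ centralizer ((Q ⊓ centralizer (F : Set X) : Subgroup X) : Set X) :=
  commute_of_fpf c.D.hq c.D.hH
    (le_normalizer_inf (inf_le_left.trans c.hRQ)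
      (le_normalizer_centralizer (le_normalizer_of_le_centralizer inf_le_right)))
    (fixF_le_normalizer c.fQ c.D.hHF).2 (fixF_le_normalizer c.fR c.D.hHF).2
    ((coprime_pGroups c.ht c.hQ c.hs c.hR c.ts).coprime_dvd_left (Subgroup.card_dvd_of_le inf_le_left)
      |>.coprime_dvd_right (Subgroup.card_dvd_of_le inf_le_left))
    c.fQ.inf_eq_bot c.fR.inf_eq_bot

theorem coprime_F {F H S : Subgroup X} (D : Data F H p q) {r : ℕ} (hr : r.Prime) (hS : IsPGroup r S) (hrp : r ≠ p) :
    (Nat.card F).Coprime (Nat.card S) := by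
  rw [D.hF]; exact (card_coprime hr hS D.hp hrp).symm

theorem decompose_F {F H S : Subgroup X} (D : Data F H p q) (hFS : F ≤ normalizer (S : Set X)) {r : ℕ}
    (hr : r.Prime) (hS : IsPGroup r S) (hrp : r ≠ p) {x : X} (hx : x ∈ S) :
    ∃ c ∈ S ⊓ centralizer (F : Set X), ∃ d ∈ ⁅S, F⁆, x = c * d :=
  Coprime.exists_eq_centralizer_mul_commutator hFS (coprime_F D hr hS hrp) (Or.inl D.solvable_F) hx

/-- A supported component, moved to a conjugate. -/
theorem conj_supported {V K : Subgroup X} {a : X} (ha : a ∈ normalizer (V : Set X))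
    (hW : V ⊓ centralizer (K : Set X) ≠ ⊥) :
    V ⊓ centralizer ((MulAut.conj a • K : Subgroup X) : Set X) ≠ ⊥ := by
  intro h
  refine hW (eq_bot_iff.mpr fun w hw => mem_bot.mpr ?_)
  have h1 := conj_mem_inf_centralizer ha hw
  rw [h, mem_bot] at h1
  exact conj_eq_one_iff.mp h1

end Cfsg.Agent.GroupStructure3.PQ
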