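import Cfsg.Agent.GroupStructure3.PQ.ModuleBase
import Cfsg.Agent.GroupStructure3.PQ.Exception

/-! The special case of the minimal configuration. -/

set_option autoImplicit false
set_option linter.style.haveILetI false
set_option linter.deprecated false

namespace Cfsg.Agent.GroupStructure3.PQ

open Subgroup Cfsg.Agent
open scoped commutatorElement Pointwise

universe u

variable {X : Type u} [Group X] [Finite X] {F H Q R V : Subgroup X} {p q l t s : ℕ}

theorem Min.special (m : Min F H Q R V p q l t s) (hsp : Cfsg.IsSpecial t Q) : False := by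
  have c := m.toCfg
  haveI := Fact.mk c.ht
  haveI := Fact.mk c.hs
  obtain ⟨-, hfr, hcomm⟩ := id hsp
  set Z := (center Q).map Q.subtype with hZdef
  have hZQ : Z ≤ Q := map_subtype_le _
  have hΦ : ⁅Q, Q⁆ = Z := by rw [← map_subtype_commutator, hcomm]
  have hnZ : ∀ B : Subgroup X, B ≤ normalizer (Q : Set X) → B ≤ normalizer (Z : Set X) := fun B hB b hb =>
    GenA.MinimalAction.normalizer_map_of_characteristic _ (hB hb)
  have hQZ : Q ≤ centralizer (Z : Set X) := by
    intro a ha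
    rw [mem_centralizer_iff]
    rintro _ ⟨z, hz, rfl⟩
    exact (congrArg Subtype.val (mem_center_iff.mp hz ⟨a, ha⟩)).symm
  haveI : Group.IsNilpotent Q := c.hQ.isNilpotent
  haveI : Nontrivial Q := (Subgroup.nontrivial_iff_ne_bot Q).mpr m.hQ1
  have hZ1 : Z ≠ ⊥ := by
    intro h
    haveI : Nontrivial (center Q) := c.hQ.center_nontrivial
    exact (Subgroup.nontrivial_iff_ne_bot (center Q)).mp inferInstance
      ((Subgroup.map_eq_bot_iff_of_injective _ Q.subtype_injective).mp h)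
  have hZlt : Z < Q := by
    refine lt_of_le_of_ne hZQ fun h => ?_
    have h2 : center Q = ⊤ := by
      rw [← Subgroup.map_subtype_inj, ← MonoidHom.range_eq_map, Subgroup.range_subtype]; exact h
    have := (commutator_eq_bot_iff_center_eq_top ↥Q).mpr h2
    rw [h2, this] at hcomm
    exact m.hQ1 (by rw [← Q.range_subtype, MonoidHom.range_eq_map, ← hcomm, Subgroup.map_bot])
  have hpowZ : ∀ x ∈ Q, x ^ t ∈ Z := fun x hx =>
    ⟨⟨x, hx⟩ ^ t, hfr ▸ Cfsg.Agent.Solvable.Basics.pow_mem_frattini c.hQ ⟨x, hx⟩, rfl⟩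
  have hZel : Cfsg.IsElementaryAbelian t Z := by
    refine ⟨⟨⟨fun a b => Subtype.ext (mem_centralizer_iff.mp (hQZ (hZQ b.2)) a a.2)⟩⟩, ?_⟩
    intro z hz
    rw [← hΦ] at hz
    have hle : ⁅Q, Q⁆ ≤ ({ carrier := {z | z ∈ Z ∧ z ^ t = 1}
                           one_mem' := ⟨one_mem _, one_pow _⟩
                           mul_mem' := fun {a b} ha hb => ⟨mul_mem ha.1 hb.1, by
                             rw [(show Commute a b from mem_centralizer_iff.mp (hQZ (hZQ hb.1)) a ha.1).mul_pow, ha.2, hb.2, one_mul]⟩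
                           inv_mem' := fun {a} ha => ⟨inv_mem ha.1, by rw [inv_pow, ha.2, inv_one]⟩ } : Subgroup X) := by
      rw [Subgroup.commutator_le]
      intro a ha b hb
      have hc : ⁅a, b⁆ ∈ Z := hΦ ▸ Subgroup.commutator_mem_commutator ha hb
      refine ⟨hc, ?_⟩
      have e : a * b * a⁻¹ = ⁅a, b⁆ * b := by rw [commutatorElement_def]; group
      have e2 : a * b ^ t * a⁻¹ = ⁅a, b⁆ ^ t * b ^ t := by
        rw [← conj_pow, e, (show Commute ⁅a, b⁆ b from mem_centralizer_iff.mp (hQZ hb) _ hc).mul_pow]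
      rw [← mem_centralizer_iff.mp (hQZ ha) _ (hpowZ b hb), mul_inv_cancel_right] at e2
      exact mul_eq_right.mp e2.symm
    exact (hle hz).2
  have hA : F ⊔ H ≤ normalizer (Z : Set X) := sup_le (hnZ F c.fQ.hF) (hnZ H c.fQ.hH)
  have hRZ : R ≤ centralizer (Z : Set X) :=
    m.qmin Z hZlt (hnZ R c.hRQ) (hnZ F c.fQ.hF) (hnZ H c.fQ.hH)
  have hkill : ∀ Y : Subgroup X, Y ≤ Z → Y ≠ ⊥ → F ≤ normalizer (Y : Set X) → H ≤ normalizer (Y : Set X) →
      V ⊓ centralizer (Y : Set X) = ⊥ := by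
    intro Y hY hY1 hF hH
    have hn : ∀ B : Subgroup X, B ≤ normalizer (V : Set X) → B ≤ normalizer (Y : Set X) →
        B ≤ normalizer ((V ⊓ centralizer (Y : Set X) : Subgroup X) : Set X) := fun B h1 h2 =>
      le_normalizer_inf h1 (le_normalizer_centralizer h2)
    refine m.vmin _ (lt_of_le_of_ne inf_le_left fun h => hY1 (eq_bot_iff.mpr ?_))
      (hn Q c.hQV (le_normalizer_of_le_centralizer (hQZ.trans (centralizer_le hY))))
      (hn R c.hRV (le_normalizer_of_le_centralizer (hRZ.trans (centralizer_le hY))))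
      (hn F c.fV.hF hF) (hn H c.fV.hH hH)
    exact (le_inf (hY.trans hZQ) (le_centralizer_iff.mp (inf_eq_left.mp h))).trans m.faith.le
  have hnR : ¬ R ≤ centralizer (Q : Set X) := fun h => m.hQ1 (by
    rw [← m.hQR]; exact Coprime.commutator_eq_bot_iff_le_centralizer'.mpr h)
  have hY : Z ⊓ centralizer (F : Set X) = ⊥ := by
    by_contra hY1
    have hVY := hkill _ inf_le_left hY1 (le_normalizer_inf (hnZ F c.fQ.hF) (le_normalizer_centralizer le_normalizer))
      (le_normalizer_inf (hnZ H c.fQ.hH) (le_normalizer_centralizer c.D.hHF))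
    have hU : V ⊓ centralizer (F : Set X) = ⊥ := by
      rw [eq_bot_iff, ← hVY]
      exact le_inf inf_le_left ((le_centralizer_iff.mp c.fixed_Q_V).trans
        (centralizer_le (inf_le_inf_right (centralizer (F : Set X)) hZQ)))
    have hLem := lem_F c.D c.hl c.ht c.lt c.lp c.tp c.tq Q V c.hQ c.fQ.hF c.hV c.fV.hF c.hQV hU
    have hQF : ⁅Q, F⁆ = ⊥ := eq_bot_iff.mpr
      ((le_inf (Coprime.commutator_le_of_le_normalizer c.fQ.hF) hLem).trans m.faith.le)
    have hFQ : F ≤ centralizer (Q : Set X) := Coprime.commutator_eq_bot_iff_le_centralizer'.mp hQF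
    refine hnR fun r hr => ?_
    obtain ⟨a, ha, d, hd, rfl⟩ := decompose_F c.D c.fR.hF c.hs c.hR c.sp hr
    have haQ : a ∈ centralizer (Q : Set X) := by
      have h := c.fixed_R_Q ha
      rwa [inf_eq_left.mpr (le_centralizer_iff.mp hFQ)] at h
    refine mul_mem haQ ?_
    have h1 : ⁅⁅F, Q⁆, R⁆ = ⊥ := by rw [Subgroup.commutator_comm F Q, hQF, Subgroup.commutator_bot_left]
    have h2 : ⁅⁅Q, R⁆, F⁆ = ⊥ := by rw [m.hQR, hQF]
    exact Subgroup.commutator_eq_bot_iff_le_centralizer.mp (Subgroup.commutator_commutator_eq_bot_of_rotate h1 h2) hd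
  have M : EMod l t Z V := ⟨c.hl, c.ht, c.lt, hZel, c.hV, hZQ.trans c.hQV,
    hkill Z le_rfl hZ1 (hnZ F c.fQ.hF) (hnZ H c.fQ.hH)⟩
  have hQK : ∀ K, Hyper t Z K → Q ≤ normalizer (K : Set X) := fun K hK =>
    le_normalizer_of_le_centralizer (hQZ.trans (centralizer_le hK.1))
  have hRK : ∀ K, Hyper t Z K → R ≤ normalizer (K : Set X) := fun K hK =>
    le_normalizer_of_le_centralizer (hRZ.trans (centralizer_le hK.1))
  have hmoved : ∀ K, Hyper t Z K → V ⊓ centralizer (K : Set X) ≠ ⊥ → F ⊓ normalizer (K : Set X) = ⊥ := by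
    intro K hK hW
    refine (c.D.fixes_or_moves K).resolve_left fun hF => hK.not_le c.ht fun x hx => ?_
    obtain ⟨a, ha, d, hd, rfl⟩ := decompose_F c.D (hnZ F c.fQ.hF) c.ht (c.hQ.to_le hZQ) c.tp hx
    rw [hY, mem_bot] at ha
    rw [ha, one_mul]
    exact commutator_le_of_fixed c.D M c.lp c.lq c.tp c.tq c.fV hA hK hW hF hd
  have hC0 : Q ⊓ centralizer (F : Set X) = ⊥ := by
    rw [eq_bot_iff]
    intro x hx
    refine m.faith.le (mem_inf.mpr ⟨hx.1, M.mem_centralizer_of_forall hZ1 fun K hK => ?_⟩)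
    by_cases hW : V ⊓ centralizer (K : Set X) = ⊥
    · rw [hW, Subgroup.coe_bot, mem_centralizer_iff]
      rintro _ rfl
      rw [one_mul, mul_one]
    · exact M.mem_centralizer_moved hK (hnZ F c.fQ.hF) c.fV.hF (hmoved K hK hW) (c.hQV hx.1) (hQK K hK hx.1)
        fun v hv => mul_inv_eq_iff_eq_mul.mpr (mem_centralizer_iff.mp (c.fixed_Q_V hx) v hv).symm
  -- `⁅R, F⁆` centralizes `Q / Z`, hence `Q`
  have hFL : F ≤ normalizer (Z : Set X) := hnZ F c.fQ.hF
  have hHL : H ≤ normalizer (Z : Set X) := hnZ H c.fQ.hH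
  have hQL : Q ≤ normalizer (Z : Set X) := hnZ Q le_normalizer
  have hRL : R ≤ normalizer (Z : Set X) := hnZ R c.hRQ
  have hcopZ : (Nat.card Z).Coprime (p * q) :=
    Nat.Coprime.mul_right (card_coprime c.ht (c.hQ.to_le hZQ) c.D.hp c.tp) (card_coprime c.ht (c.hQ.to_le hZQ) c.D.hq c.tq)
  have hLem : ⁅R, F⁆ ≤ centralizer (Q : Set X) := by
    have hfix : sec Z Q ⊓ centralizer (sec Z F : Set (normalizer (Z : Set X) ⧸ Z.subgroupOf (normalizer (Z : Set X)))) = ⊥ := by
      rw [sec, sec, ← Coprime.map_inf_centralizer _ (subgroupOf_le_normalizer _ c.fQ.hF)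
        (by rw [card_subgroupOf hFL, card_subgroupOf hQL]; exact coprime_F c.D c.ht c.hQ c.tp)
        (Or.inr (isSolvable_of_isPGroup c.ht (c.hQ.comap_subtype)))]
      refine le_bot_iff.mp ((Subgroup.map_mono ?_).trans (le_of_eq (Subgroup.map_bot _)))
      intro x hx
      refine Subgroup.mem_bot.mpr (Subtype.ext ?_)
      have : (x : X) ∈ Q ⊓ centralizer (F : Set X) := mem_inf.mpr ⟨hx.1, mem_centralizer_iff.mpr fun f hf =>
        congrArg Subtype.val (mem_centralizer_iff.mp hx.2 ⟨f, hFL hf⟩ hf)⟩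
      rw [hC0, mem_bot] at this
      exact this
    have h := lem_F (sec_data c.D hFL hHL hcopZ) c.ht c.hs c.ts c.tp c.sp c.sq (sec Z R) (sec Z Q) (sec_isPGroup c.hR)
      (sec_le_normalizer c.fR.hF) (sec_elementary hQL hΦ.le hpowZ) (sec_le_normalizer c.fQ.hF) (sec_le_normalizer c.hRQ) hfix
    rw [← sec_commutator hRL hFL] at h
    have hRFR : ⁅R, F⁆ ≤ R := Coprime.commutator_le_of_le_normalizer c.fR.hF
    have hle : ⁅Q, ⁅R, F⁆⁆ ≤ Z := (commutator_le_iff_sec hQL (hRFR.trans hRL)).mpr h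
    refine Coprime.le_centralizer_of_frattini (hRFR.trans c.hRQ)
      ((coprime_pGroups c.hs (c.hR.to_le hRFR) c.ht c.hQ c.ts.symm).coprime_dvd_right (frattini Q).card_subgroup_dvd_card)
      fun a ha x hx => ?_
    rw [hfr, ← commutatorElement_def, ← commutatorElement_inv]
    exact inv_mem (hle (Subgroup.commutator_mem_commutator hx ha))
  have hRF : R ≤ centralizer (F : Set X) := by
    have hn := fixF_le_normalizer c.fR c.D.hHF
    by_contra hne
    refine hnR fun r hr => ?_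
    obtain ⟨a, ha, d, hd, rfl⟩ := decompose_F c.D c.fR.hF c.hs c.hR c.sp hr
    exact mul_mem (m.rmin _ (lt_of_le_of_ne inf_le_left fun h => hne (h.ge.trans inf_le_right)) hn.1 hn.2 ha) (hLem hd)
  refine m.hQ1 (eq_bot_iff.mpr fun x hx => m.faith.le (mem_inf.mpr ⟨hx, M.mem_centralizer_of_forall hZ1 fun K hK => ?_⟩))
  revert x
  show Q ≤ centralizer ((V ⊓ centralizer (K : Set X) : Subgroup X) : Set X)
  by_cases hW : V ⊓ centralizer (K : Set X) = ⊥
  · intro x _
    rw [hW, Subgroup.coe_bot, mem_centralizer_iff]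
    rintro _ rfl
    rw [one_mul, mul_one]
  obtain ⟨S, DS, hsup, hSK, hWS⟩ := exists_stabilizer c.D M c.lp c.lq c.fV hA hK hW (hmoved K hK hW)
  set W := V ⊓ centralizer (K : Set X) with hWdef
  have hnW : ∀ B : Subgroup X, B ≤ normalizer (V : Set X) → B ≤ normalizer (K : Set X) → B ≤ normalizer (W : Set X) :=
    fun B h1 h2 => le_normalizer_inf h1 (le_normalizer_centralizer h2)
  have hQW := hnW Q c.hQV (hQK K hK)
  have hRW := hnW R c.hRV (hRK K hK)
  have fV' := c.fV.change hsup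
  have fQ' := c.fQ.change hsup
  have fR' := c.fR.change hsup
  have hSW := hnW S fV'.hH hSK
  have cSR : (Nat.card S).Coprime (Nat.card R) := by rw [DS.hH]; exact (card_coprime c.hs c.hR c.D.hq c.sq).symm
  have hRS : R ⊓ centralizer (S : Set X) = ⊥ := eq_bot_iff.mpr fun r hr =>
    mem_bot.mpr (fR'.fix r hr.1 (hRF hr.1) hr.2)
  have hRR : R ≤ ⁅R, S⁆ := by
    intro r hr
    obtain ⟨a, ha, d, hd, rfl⟩ := Coprime.exists_eq_centralizer_mul_commutator fR'.hH cSR
      (Or.inr (isSolvable_of_isPGroup c.hs c.hR)) hr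
    rw [hRS, mem_bot] at ha
    rw [ha, one_mul]
    exact hd
  set N := Q ⊓ centralizer (W : Set X) with hNdef
  have hnN : ∀ B : Subgroup X, B ≤ normalizer (Q : Set X) → B ≤ normalizer (W : Set X) → B ≤ normalizer (N : Set X) :=
    fun B h1 h2 => le_normalizer_inf h1 (le_normalizer_centralizer h2)
  have hQN := hnN Q le_normalizer hQW
  have hRN := hnN R c.hRQ hRW
  have hSN := hnN S fQ'.hH hSW
  suffices hQsec : ¬ ∃ k : ℕ, t = 2 ∧ q = 2 ^ k + 1 by
    have hW' := Components.Hyperplane.isElementaryAbelian_of_le c.hV (inf_le_left : W ≤ V)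
    have h := GenA.FixedPointFreeModule.commutator_le_centralizer c.hl c.ht c.D.hq c.lt c.lq c.tq S Q W DS.hH c.hQ
      fQ'.hH hW' hSW hQW hWS (fun h2 ⟨k, hk⟩ => absurd ⟨k, h2, hk⟩ hQsec)
    have hQS : ⁅Q, S⁆ ≤ N := le_inf (Coprime.commutator_le_of_le_normalizer fQ'.hH) h
    have hR3 := le_centralizer_of_three (sec_le_normalizer (N := N) c.hRQ) ((commutator_le_iff_sec hQN hSN).mp hQS)
      (by rw [← sec_commutator hRN hSN]; exact sec_mono hRR)
    have hle : ⁅Q, R⁆ ≤ N := (commutator_le_iff_sec hQN hRN).mpr hR3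
    rw [m.hQR] at hle
    exact hle.trans inf_le_right
  rintro ⟨k, rfl, hk⟩
  -- the exceptional case
  have hKN : K ≤ N := le_inf (hK.1.trans hZQ) (le_centralizer_iff.mp inf_le_right)
  have hQW1 : ¬ Q ≤ centralizer (W : Set X) := fun h => by
    have := M.inf_centralizer_eq hK hW
    exact hK.not_le c.ht ((le_inf le_rfl (hZQ.trans h)).trans this.le)
  have hWN : W ≤ normalizer (N : Set X) := le_normalizer_of_le_centralizer (le_centralizer_iff.mp inf_le_right)
  have hW' := Components.Hyperplane.isElementaryAbelian_of_le c.hV (inf_le_left : W ≤ V)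
  have hWN1 : ∀ w ∈ W, w ∈ N → w = 1 := fun w h1 h2 =>
    GenA.FixedPointFreeModule.disjoint_of_coprime c.hl c.ht c.lt hW' c.hQ h1 h2.1
  refine exception c.hl c.hs c.D.hq hk c.tq.symm c.lt c.lq c.ts.symm c.sq (S := sec N S) (R := sec N R) (Q := sec N Q)
    (W := sec N W) ?_ (sec_isPGroup c.hQ) (sec_isPGroup c.hR) ?_ (sec_le_normalizer fR'.hH) (sec_le_normalizer fQ'.hH)
    (sec_le_normalizer hSW) (sec_le_normalizer c.hRQ) (sec_le_normalizer hQW) ?_ ?_ ?_ ?_ ?_ ?_
  · rw [sec, card_map_eq, card_subgroupOf hSN, DS.hH]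
    rw [QuotientGroup.ker_mk', card_subgroupOf Subgroup.le_normalizer, card_subgroupOf hSN, DS.hH]
    exact card_coprime c.ht (c.hQ.to_le inf_le_left) c.D.hq c.tq
  · refine sec_elementary hWN ?_ fun w hw => by rw [hW'.2 w hw]; exact one_mem N
    rw [Subgroup.commutator_le]
    intro a ha b hb
    rw [commutatorElement_eq_one_iff_mul_comm.mpr (Components.Hyperplane.mem_comm hW' ha hb)]
    exact one_mem N
  · -- faithful
    rw [eq_bot_iff]
    rintro y ⟨⟨x, hx, rfl⟩, hy⟩
    refine mem_bot.mpr (sec_eq_one_iff.mpr (mem_inf.mpr ⟨hx, mem_centralizer_iff.mpr fun w hw => ?_⟩))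
    have h1 := mem_centralizer_iff.mp hy _ (mem_sec (hWN hw) hw)
    have h2 : ⁅(x : X), w⁆ ∈ N := (sec_eq_one_iff (N := N) (x := ⁅x, ⟨w, hWN hw⟩⁆)).mp (by
      rw [map_commutatorElement, commutatorElement_eq_one_iff_mul_comm]; exact h1.symm)
    have h3 : ⁅(x : X), w⁆ ∈ W := by
      rw [commutatorElement_def]
      exact mul_mem ((mem_normalizer_iff.mp (hQW hx) w).mp hw) (inv_mem hw)
    exact (commutatorElement_eq_one_iff_mul_comm.mp (hWN1 _ h3 h2)).symm
  · rw [← sec_commutator hQN hRN, m.hQR]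
  · rw [sec, sec, ← Coprime.map_inf_centralizer _ (subgroupOf_le_normalizer _ fR'.hH)
      (by rw [card_subgroupOf hSN, card_subgroupOf hRN]; exact cSR)
      (Or.inr (isSolvable_of_isPGroup c.hs (c.hR.comap_subtype)))]
    refine le_bot_iff.mp ((Subgroup.map_mono ?_).trans (le_of_eq (Subgroup.map_bot _)))
    intro x hx
    refine Subgroup.mem_bot.mpr (Subtype.ext ?_)
    have : (x : X) ∈ R ⊓ centralizer (S : Set X) := mem_inf.mpr ⟨hx.1, mem_centralizer_iff.mpr fun f hf =>
      congrArg Subtype.val (mem_centralizer_iff.mp hx.2 ⟨f, hSN hf⟩ hf)⟩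
    rw [hRS, mem_bot] at this
    exact this
  · have cSW : (Nat.card S).Coprime (Nat.card W) := by
      haveI := Fact.mk c.hl
      rw [DS.hH]; exact (card_coprime c.hl (Components.Hyperplane.isPGroup hW') c.D.hq c.lq).symm
    rw [sec, sec, ← Coprime.map_inf_centralizer _ (subgroupOf_le_normalizer _ hSW)
      (by rw [card_subgroupOf hSN, card_subgroupOf hWN]; exact cSW)
      (Or.inl (isSolvable_of_isPGroup c.D.hq (IsPGroup.of_card (n := 1) (by rw [card_subgroupOf hSN, DS.hH, pow_one]))))]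
    refine le_bot_iff.mp ((Subgroup.map_mono ?_).trans (le_of_eq (Subgroup.map_bot _)))
    intro x hx
    refine Subgroup.mem_bot.mpr (Subtype.ext ?_)
    have : (x : X) ∈ W ⊓ centralizer (S : Set X) := mem_inf.mpr ⟨hx.1, mem_centralizer_iff.mpr fun f hf =>
      congrArg Subtype.val (mem_centralizer_iff.mp hx.2 ⟨f, hSN hf⟩ hf)⟩
    rw [hWS, mem_bot] at this
    exact this
  · rw [← sec_commutator hQN hQN, hΦ]
    have h := OddLocal.FrobeniusFormula.card_eq_inf_ker_mul
      (QuotientGroup.mk' (N.subgroupOf (normalizer (N : Set X)))) (Z.subgroupOf (normalizer (N : Set X)))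
    rw [QuotientGroup.ker_mk', card_subgroupOf (hZQ.trans hQN)] at h
    have h1 : Z.subgroupOf (normalizer (N : Set X)) ⊓ N.subgroupOf (normalizer (N : Set X)) = K.subgroupOf _ := by
      rw [show Z.subgroupOf (normalizer (N : Set X)) ⊓ N.subgroupOf (normalizer (N : Set X)) =
        (Z ⊓ N).subgroupOf (normalizer (N : Set X)) from (Subgroup.comap_inf _ _ _).symm]
      congr 1
      refine le_antisymm ?_ (le_inf hK.1 hKN)
      rw [← M.inf_centralizer_eq hK hW]
      exact inf_le_inf_left _ inf_le_right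
    have h2 := Subgroup.relIndex_mul_relIndex ⊥ K Z bot_le hK.1
    rw [Subgroup.relIndex_bot_left, Subgroup.relIndex_bot_left, hK.2] at h2
    rw [h1, card_subgroupOf ((hK.1.trans hZQ).trans hQN), ← h2] at h
    exact (Nat.eq_of_mul_eq_mul_left Nat.card_pos h).symm
  · rw [← sec_commutator hQN hQN, hΦ]
    rintro _ ⟨x, hx, rfl⟩
    rw [← map_mul]
    refine ⟨x * x, ?_, rfl⟩
    show ((x : X) * x) ∈ Z
    rw [← sq]
    exact hpowZ x hx

end Cfsg.Agent.GroupStructure3.PQ
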