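import Cfsg.Agent.GroupStructure3.PQ.AbelianCase
import Cfsg.Agent.GroupStructure3.PQ.SpecialCase

/-!
A group of order `p q` acting without fixed points on the `s`-group `R`, the `t`-group `Q` and the
module `V` forces `⁅Q, R⁆` to centralize `V`.
-/

set_option autoImplicit false
set_option linter.style.haveILetI false
set_option linter.deprecated false

namespace Cfsg.Agent.GroupStructure3.PQ

open Subgroup Cfsg.Agent
open scoped commutatorElement Pointwise

universe u

variable {p q l t s : ℕ}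

/-- The conclusion, for configurations of size less than `n`. -/
def Upto (p q l t s n : ℕ) : Prop :=
  ∀ {X : Type u} [Group X] [Finite X] (F H Q R V : Subgroup X), Nat.card Q + Nat.card R + Nat.card V < n →
    Cfg F H Q R V p q l t s → ⁅Q, R⁆ ≤ centralizer (V : Set X)

variable {X : Type u} [Group X] [Finite X] {F H Q R V : Subgroup X}

theorem Cfg.restrict (c : Cfg F H Q R V p q l t s) {Q' R' V' : Subgroup X} (hQ : Q' ≤ Q) (hR : R' ≤ R) (hV : V' ≤ V)
    (hQV : Q' ≤ normalizer (V' : Set X)) (hRV : R' ≤ normalizer (V' : Set X)) (hRQ : R' ≤ normalizer (Q' : Set X))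
    (fV : F ≤ normalizer (V' : Set X) ∧ H ≤ normalizer (V' : Set X))
    (fQ : F ≤ normalizer (Q' : Set X) ∧ H ≤ normalizer (Q' : Set X))
    (fR : F ≤ normalizer (R' : Set X) ∧ H ≤ normalizer (R' : Set X)) : Cfg F H Q' R' V' p q l t s where
  D := c.D
  hl := c.hl
  ht := c.ht
  hs := c.hs
  lt := c.lt
  ts := c.ts
  lp := c.lp
  lq := c.lq
  tp := c.tp
  tq := c.tq
  sp := c.sp
  sq := c.sq
  hV := Components.Hyperplane.isElementaryAbelian_of_le c.hV hV
  hQ := c.hQ.to_le hQ
  hR := c.hR.to_le hR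
  hQV := hQV
  hRV := hRV
  hRQ := hRQ
  fV := c.fV.of_le hV fV.1 fV.2
  fQ := c.fQ.of_le hQ fQ.1 fQ.2
  fR := c.fR.of_le hR fR.1 fR.2

theorem card_lt_of_lt {S T : Subgroup X} (h : S < T) : Nat.card S < Nat.card T :=
  lt_of_le_of_ne (Subgroup.card_le_of_le h.le) (fun e => h.ne (Subgroup.eq_of_le_of_card_ge h.le e.ge))

/-- Dividing out the kernel on `V`. -/
theorem Cfg.pass {n : ℕ} (IH : Upto.{u} p q l t s n) (c : Cfg F H Q R V p q l t s)
    (hn : Nat.card Q + Nat.card R + Nat.card V ≤ n) (hD : Q ⊓ centralizer (V : Set X) ≠ ⊥) :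
    ⁅Q, R⁆ ≤ centralizer (V : Set X) := by
  set N := Q ⊓ centralizer (V : Set X) with hN
  have hnN : ∀ B : Subgroup X, B ≤ normalizer (Q : Set X) → B ≤ normalizer (V : Set X) → B ≤ normalizer (N : Set X) :=
    fun B h1 h2 => le_normalizer_inf h1 (le_normalizer_centralizer h2)
  have hQN := hnN Q le_normalizer c.hQV
  have hRN := hnN R c.hRQ c.hRV
  have hFN := hnN F c.fQ.hF c.fV.hF
  have hHN := hnN H c.fQ.hH c.fV.hH
  have hVN : V ≤ normalizer (N : Set X) := le_normalizer_of_le_centralizer (le_centralizer_iff.mp inf_le_right)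
  have hNt : IsPGroup t N := c.hQ.to_le inf_le_left
  have hcN : (Nat.card N).Coprime (p * q) :=
    Nat.Coprime.mul_right (card_coprime c.ht hNt c.D.hp c.tp) (card_coprime c.ht hNt c.D.hq c.tq)
  have hcop : ∀ (S : Subgroup X) (r : ℕ), r.Prime → IsPGroup r S → r ≠ p → r ≠ q → (Nat.card S).Coprime (p * q) :=
    fun S r hr hS h1 h2 => Nat.Coprime.mul_right (card_coprime hr hS c.D.hp h1) (card_coprime hr hS c.D.hq h2)
  have hVone : ∀ x ∈ V, x ∈ N → x = 1 := fun x h1 h2 =>
    GenA.FixedPointFreeModule.disjoint_of_coprime c.hl c.ht c.lt c.hV c.hQ h1 h2.1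
  have c' : Cfg (sec N F) (sec N H) (sec N Q) (sec N R) (sec N V) p q l t s :=
    { D := sec_data c.D hFN hHN hcN
      hl := c.hl, ht := c.ht, hs := c.hs, lt := c.lt, ts := c.ts, lp := c.lp, lq := c.lq, tp := c.tp, tq := c.tq
      sp := c.sp, sq := c.sq
      hV := sec_elementary hVN (Subgroup.commutator_le.mpr fun a ha b hb => by
          rw [commutatorElement_eq_one_iff_mul_comm.mpr (Components.Hyperplane.mem_comm c.hV ha hb)]
          exact one_mem N)
        (fun x hx => by rw [c.hV.2 x hx]; exact one_mem N)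
      hQ := sec_isPGroup c.hQ
      hR := sec_isPGroup c.hR
      hQV := sec_le_normalizer c.hQV
      hRV := sec_le_normalizer c.hRV
      hRQ := sec_le_normalizer c.hRQ
      fV := sec_fpf c.D hFN hHN hVN c.fV (hcop V l c.hl c.isPGroup_V c.lp c.lq) (isSolvable_of_isPGroup c.hl c.isPGroup_V)
      fQ := sec_fpf c.D hFN hHN hQN c.fQ (hcop Q t c.ht c.hQ c.tp c.tq) (isSolvable_of_isPGroup c.ht c.hQ)
      fR := sec_fpf c.D hFN hHN hRN c.fR (hcop R s c.hs c.hR c.sp c.sq) (isSolvable_of_isPGroup c.hs c.hR) }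
  have h := IH _ _ _ _ _ (by
    have h1 := card_sec_lt hQN inf_le_left hD
    have h2 := Nat.le_of_dvd Nat.card_pos (card_sec_dvd hRN)
    have h3 := Nat.le_of_dvd Nat.card_pos (card_sec_dvd hVN)
    omega) c'
  rw [← sec_commutator hQN hRN] at h
  have hQR : ⁅Q, R⁆ ≤ Q := Coprime.commutator_le_of_le_normalizer c.hRQ
  have h2 := (commutator_le_iff_sec hVN (hQR.trans hQN)).mpr h
  intro x hx
  rw [mem_centralizer_iff]
  intro v hv
  have h3 : ⁅v, x⁆ ∈ V := by
    rw [show ⁅v, x⁆ = v * (x * v⁻¹ * x⁻¹) by rw [commutatorElement_def]; group]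
    exact mul_mem hv ((mem_normalizer_iff.mp (c.hQV (hQR hx)) _).mp (inv_mem hv))
  exact commutatorElement_eq_one_iff_mul_comm.mp (hVone _ h3 (h2 (Subgroup.commutator_mem_commutator hv hx)))

theorem Cfg.step {n : ℕ} (IH : Upto.{u} p q l t s n) (c : Cfg F H Q R V p q l t s)
    (hn : Nat.card Q + Nat.card R + Nat.card V ≤ n) : ⁅Q, R⁆ ≤ centralizer (V : Set X) := by
  by_cases hD : Q ⊓ centralizer (V : Set X) = ⊥
  swap
  · exact c.pass IH hn hD
  by_cases hnt : ⁅Q, R⁆ = ⊥
  · rw [hnt]; exact bot_le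
  exfalso
  haveI := Fact.mk c.ht
  haveI := Fact.mk c.hl
  have hself : ∀ U : Subgroup X, U ≤ normalizer (U : Set X) := fun U => le_normalizer
  have hqmin : ∀ U : Subgroup X, U < Q → R ≤ normalizer (U : Set X) → F ≤ normalizer (U : Set X) →
      H ≤ normalizer (U : Set X) → R ≤ centralizer (U : Set X) := by
    intro U hU hRU hFU hHU
    have c' := c.restrict hU.le le_rfl le_rfl (hU.le.trans c.hQV) c.hRV hRU ⟨c.fV.hF, c.fV.hH⟩ ⟨hFU, hHU⟩
      ⟨c.fR.hF, c.fR.hH⟩
    have h := IH _ _ _ _ _ (by have := card_lt_of_lt hU; omega) c'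
    refine Coprime.commutator_eq_bot_iff_le_centralizer'.mp (eq_bot_iff.mpr ?_)
    exact (le_inf ((Coprime.commutator_le_of_le_normalizer hRU).trans hU.le) h).trans hD.le
  set B := R ⊔ (F ⊔ H)
  have hB : B ≤ normalizer (Q : Set X) := sup_le c.hRQ (sup_le c.fQ.hF c.fQ.hH)
  obtain ⟨hQR, hkind, -, -⟩ := GenA.MinimalAction.reduction B R Q c.hQ hB le_sup_left
    (sup_le le_normalizer (sup_le c.fR.hF c.fR.hH)) (card_coprime c.hs c.hR c.ht c.ts.symm) hnt (fun U hU hUB =>
      Coprime.commutator_eq_bot_iff_le_centralizer'.mpr (hqmin U hU (le_sup_left.trans hUB)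
        ((le_sup_left.trans le_sup_right).trans hUB) ((le_sup_right.trans le_sup_right).trans hUB)))
  have hQ1 : Q ≠ ⊥ := fun h => hnt (by rw [h, Subgroup.commutator_bot_left])
  have hrmin : ∀ R' : Subgroup X, R' < R → F ≤ normalizer (R' : Set X) → H ≤ normalizer (R' : Set X) →
      R' ≤ centralizer (Q : Set X) := by
    intro R' hR' hF hH
    have c' := c.restrict le_rfl hR'.le le_rfl c.hQV (hR'.le.trans c.hRV) (hR'.le.trans c.hRQ) ⟨c.fV.hF, c.fV.hH⟩
      ⟨c.fQ.hF, c.fQ.hH⟩ ⟨hF, hH⟩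
    have h := IH _ _ _ _ _ (by have := card_lt_of_lt hR'; omega) c'
    refine Coprime.commutator_eq_bot_iff_le_centralizer'.mp (eq_bot_iff.mpr ?_)
    exact (le_inf (Coprime.commutator_le_of_le_normalizer (hR'.le.trans c.hRQ)) h).trans hD.le
  have hV0 : ∀ W : Subgroup X, W < V → Q ≤ normalizer (W : Set X) → R ≤ normalizer (W : Set X) →
      F ≤ normalizer (W : Set X) → H ≤ normalizer (W : Set X) → Q ≤ centralizer (W : Set X) := by
    intro W hW hQW hRW hFW hHW
    have c' := c.restrict le_rfl le_rfl hW.le hQW hRW c.hRQ ⟨hFW, hHW⟩ ⟨c.fQ.hF, c.fQ.hH⟩ ⟨c.fR.hF, c.fR.hH⟩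
    have h := IH _ _ _ _ _ (by have := card_lt_of_lt hW; omega) c'
    rwa [hQR] at h
  have cQV : (Nat.card Q).Coprime (Nat.card V) := coprime_pGroups c.ht c.hQ c.hl c.isPGroup_V c.lt.symm
  have hVQ : ⁅V, Q⁆ = V := by
    by_contra hne
    refine hQ1 (eq_bot_iff.mpr ((le_inf le_rfl ?_).trans hD.le))
    exact Coprime.le_centralizer_of_commutator_commutator_eq_bot c.hQV cQV (Or.inl (isSolvable_of_isPGroup c.ht c.hQ))
      (Coprime.commutator_eq_bot_iff_le_centralizer'.mpr
        (hV0 _ (lt_of_le_of_ne (Coprime.commutator_le_of_le_normalizer c.hQV) hne)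
          (le_normalizer_commutator c.hQV le_normalizer) (le_normalizer_commutator c.hRV c.hRQ)
          (le_normalizer_commutator c.fV.hF c.fQ.hF) (le_normalizer_commutator c.fV.hH c.fQ.hH)))
  have hfixV : V ⊓ centralizer (Q : Set X) = ⊥ := by
    haveI := c.hV.1
    have h := Coprime.inf_centralizer_inf_commutator c.hQV cQV
    rwa [hVQ, inf_eq_left.mpr inf_le_left] at h
  have m : Min F H Q R V p q l t s :=
    { c with
      faith := hD
      hQR := hQR
      hQ1 := hQ1
      fixV := hfixV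
      qmin := hqmin
      rmin := hrmin
      vmin := fun W hW h1 h2 h3 h4 => eq_bot_iff.mpr
        ((le_inf hW.le (le_centralizer_iff.mp (hV0 W hW h1 h2 h3 h4))).trans hfixV.le) }
  rcases hkind with h | h
  · exact m.abelian h
  · exact m.special h

theorem upto : ∀ n : ℕ, Upto.{u} p q l t s n := by
  intro n
  induction n with
  | zero => intro X _ _ F H Q R V h; omega
  | succ n ih => intro X _ _ F H Q R V h c; exact c.step ih (by omega)

/-- The module lemma. -/
theorem Cfg.commutator_le (c : Cfg F H Q R V p q l t s) : ⁅Q, R⁆ ≤ centralizer (V : Set X) :=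
  upto _ F H Q R V (Nat.lt_succ_self _) c

end Cfsg.Agent.GroupStructure3.PQ
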