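import Cfsg.Agent.GroupStructure3.PQ.Transport

/-! Images in the quotient of `N(N)` by `N`. -/

set_option autoImplicit false
set_option linter.style.haveILetI false
set_option linter.deprecated false

namespace Cfsg.Agent.GroupStructure3.PQ

open Subgroup Cfsg.Agent
open scoped commutatorElement Pointwise

universe u

variable {X : Type u} [Group X]

instance normal_self (N : Subgroup X) : (N.subgroupOf (normalizer (N : Set X))).Normal :=
  Subgroup.normal_in_normalizer

/-- The image of `S` in `N(N) / N`. -/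
abbrev sec (N S : Subgroup X) : Subgroup (normalizer (N : Set X) ⧸ N.subgroupOf (normalizer (N : Set X))) :=
  (S.subgroupOf (normalizer (N : Set X))).map (QuotientGroup.mk' _)

variable {N S T : Subgroup X}

theorem mem_sec {x : X} (hx : x ∈ normalizer (N : Set X)) (hxS : x ∈ S) :
    QuotientGroup.mk' (N.subgroupOf (normalizer (N : Set X))) ⟨x, hx⟩ ∈ sec N S :=
  Subgroup.mem_map_of_mem _ (show (⟨x, hx⟩ : normalizer (N : Set X)) ∈ S.subgroupOf _ from hxS)

theorem sec_eq_one_iff {x : normalizer (N : Set X)} :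
    QuotientGroup.mk' (N.subgroupOf (normalizer (N : Set X))) x = 1 ↔ (x : X) ∈ N :=
  (QuotientGroup.eq_one_iff x).trans Iff.rfl

theorem sec_mono (h : S ≤ T) : sec N S ≤ sec N T := Subgroup.map_mono (Subgroup.comap_mono h)

theorem sec_le_normalizer (h : S ≤ normalizer (T : Set X)) :
    sec N S ≤ normalizer (sec N T : Set (normalizer (N : Set X) ⧸ N.subgroupOf (normalizer (N : Set X)))) :=
  map_le_normalizer _ (subgroupOf_le_normalizer _ h)

theorem sec_isPGroup {r : ℕ} (h : IsPGroup r S) : IsPGroup r (sec N S) := h.comap_subtype.map _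

theorem sec_eq_bot_iff (hS : S ≤ normalizer (N : Set X)) : sec N S = ⊥ ↔ S ≤ N := by
  rw [sec, Subgroup.map_eq_bot_iff, QuotientGroup.ker_mk']
  exact ⟨fun h x hx => h (show (⟨x, hS hx⟩ : normalizer (N : Set X)) ∈ S.subgroupOf _ from hx),
    fun h => Subgroup.comap_mono h⟩

theorem sec_commutator (hS : S ≤ normalizer (N : Set X)) (hT : T ≤ normalizer (N : Set X)) :
    sec N ⁅S, T⁆ = ⁅sec N S, sec N T⁆ := by
  rw [sec, sec, sec, ← Subgroup.map_commutator]
  congr 1
  apply Subgroup.map_injective (normalizer (N : Set X)).subtype_injective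
  rw [Subgroup.map_commutator, Subgroup.map_subgroupOf_eq_of_le hS, Subgroup.map_subgroupOf_eq_of_le hT,
    Subgroup.map_subgroupOf_eq_of_le]
  exact Subgroup.commutator_le.mpr fun a ha b hb => by
    rw [commutatorElement_def]
    exact mul_mem (mul_mem (mul_mem (hS ha) (hT hb)) (inv_mem (hS ha))) (inv_mem (hT hb))

theorem commutator_le_iff_sec (hS : S ≤ normalizer (N : Set X)) (hT : T ≤ normalizer (N : Set X)) :
    ⁅S, T⁆ ≤ N ↔
      sec N T ≤ centralizer (sec N S : Set (normalizer (N : Set X) ⧸ N.subgroupOf (normalizer (N : Set X)))) := by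
  rw [← Coprime.commutator_eq_bot_iff_le_centralizer', ← sec_commutator hS hT, sec_eq_bot_iff]
  exact Subgroup.commutator_le.mpr fun a ha b hb => by
    rw [commutatorElement_def]
    exact mul_mem (mul_mem (mul_mem (hS ha) (hT hb)) (inv_mem (hS ha))) (inv_mem (hT hb))

theorem sec_elementary {l : ℕ} (hS : S ≤ normalizer (N : Set X)) (hc : ⁅S, S⁆ ≤ N) (hp : ∀ x ∈ S, x ^ l ∈ N) :
    Cfsg.IsElementaryAbelian l (sec N S) := by
  refine ⟨⟨⟨?_⟩⟩, ?_⟩
  · rintro ⟨a, ha⟩ ⟨b, hb⟩
    exact Subtype.ext (mem_centralizer_iff.mp ((commutator_le_iff_sec hS hS).mp hc hb) a ha)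
  · rintro _ ⟨a, ha, rfl⟩
    rw [← map_pow, sec_eq_one_iff]
    exact hp _ ha

variable [Finite X] {F H : Subgroup X} {p q : ℕ}

theorem sec_data (D : Data F H p q) (hF : F ≤ normalizer (N : Set X)) (hH : H ≤ normalizer (N : Set X))
    (hcop : (Nat.card N).Coprime (p * q)) : Data (sec N F) (sec N H) p q :=
  (D.subgroupOf hF hH).map _ (by rw [QuotientGroup.ker_mk', card_subgroupOf Subgroup.le_normalizer]; exact hcop)

theorem sec_fpf (D : Data F H p q) (hF : F ≤ normalizer (N : Set X)) (hH : H ≤ normalizer (N : Set X))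
    (hSN : S ≤ normalizer (N : Set X)) (h : Fpf F H S) (hcop : (Nat.card S).Coprime (p * q))
    (hsolv : Group.IsSolvable S) : Fpf (sec N F) (sec N H) (sec N S) :=
  (h.subgroupOf hF hH).map (D.subgroupOf hF hH) (by rwa [card_subgroupOf hSN])
    (isSolvable_map_comap hsolv) _
where
  isSolvable_map_comap (hsolv : Group.IsSolvable S) : Group.IsSolvable (S.subgroupOf (normalizer (N : Set X))) :=
    haveI := hsolv
    solvable_of_solvable_injective (f := ((normalizer (N : Set X)).subtype.subgroupComap S))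
      (fun a b h => Subtype.ext (Subtype.ext (congrArg Subtype.val h :)))

theorem card_sec_dvd (hS : S ≤ normalizer (N : Set X)) : Nat.card (sec N S) ∣ Nat.card S := by
  rw [← card_subgroupOf hS]; exact Subgroup.card_map_dvd _ _

theorem card_sec_lt (hS : S ≤ normalizer (N : Set X)) (hN : N ≤ S) (hN1 : N ≠ ⊥) :
    Nat.card (sec N S) < Nat.card S := by
  have h := OddLocal.FrobeniusFormula.card_eq_inf_ker_mul (QuotientGroup.mk' (N.subgroupOf (normalizer (N : Set X))))
    (S.subgroupOf (normalizer (N : Set X)))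
  rw [QuotientGroup.ker_mk', card_subgroupOf hS, (inf_eq_right (a := S.subgroupOf (normalizer (N : Set X))) (b := N.subgroupOf (normalizer (N : Set X)))).mpr (Subgroup.comap_mono hN),
    card_subgroupOf Subgroup.le_normalizer] at h
  rw [h]
  exact lt_mul_left Nat.card_pos ((Subgroup.one_lt_card_iff_ne_bot _).mpr hN1)

end Cfsg.Agent.GroupStructure3.PQ
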