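import Cfsg.Agent.GroupStructure3.PQ.Component
import Cfsg.Agent.GroupStructure3.PQ.Section
import Cfsg.Agent.GenA.FixedPointFreeModule

/-! Consequences of a fixed point free group of order `p q` acting on a component. -/

set_option autoImplicit false
set_option linter.style.haveILetI false
set_option linter.deprecated false

namespace Cfsg.Agent.GroupStructure3.PQ

open Subgroup Cfsg.Agent
open scoped commutatorElement Pointwise

universe u

variable {X : Type u} [Group X]

/-- Commutators of the normalizer of a section of prime order centralize it. -/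
theorem commutator_mod [Finite X] {Q K S S' : Subgroup X} (hKQ : K ≤ Q) (hpr : (K.relIndex Q).Prime)
    (hQK : Q ≤ normalizer (K : Set X)) (hSQ : S ≤ normalizer (Q : Set X)) (hSK : S ≤ normalizer (K : Set X))
    (hS'Q : S' ≤ normalizer (Q : Set X)) (hS'K : S' ≤ normalizer (K : Set X)) : ⁅Q, ⁅S, S'⁆⁆ ≤ K := by
  have hSS : ⁅S, S'⁆ ≤ normalizer (K : Set X) := Subgroup.commutator_le.mpr fun a ha b hb => by
    rw [commutatorElement_def]
    exact mul_mem (mul_mem (mul_mem (hSK ha) (hS'K hb)) (inv_mem (hSK ha))) (inv_mem (hS'K hb))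
  rw [commutator_le_iff_sec hQK hSS, sec_commutator hSK hS'K]
  set L := normalizer (K : Set X) with hL
  set f := QuotientGroup.mk' (K.subgroupOf L) with hf
  have hcard : Nat.card (sec K Q) = K.relIndex Q := by
    rw [sec, ← Subgroup.relIndex_ker, QuotientGroup.ker_mk', Subgroup.relIndex_subgroupOf hQK]
  haveI := Fact.mk hpr
  haveI : IsCyclic (sec K Q) := isCyclic_of_prime_card hcard
  obtain ⟨g, hg⟩ := IsCyclic.exists_generator (α := sec K Q)
  have key : ∀ a ∈ sec K S ⊔ sec K S', ∃ i : ℤ, a * g.1 * a⁻¹ = g.1 ^ i := by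
    intro a ha
    have han : a ∈ normalizer (sec K Q : Set (L ⧸ K.subgroupOf L)) :=
      sup_le (sec_le_normalizer hSQ) (sec_le_normalizer hS'Q) ha
    obtain ⟨i, hi⟩ := Subgroup.mem_zpowers_iff.mp (hg ⟨_, (mem_normalizer_iff.mp han g.1).mp g.2⟩)
    exact ⟨i, (congrArg Subtype.val hi).symm.trans rfl⟩
  rw [Subgroup.commutator_le]
  intro a ha b hb
  obtain ⟨i, hi⟩ := key a (mem_sup_left ha)
  obtain ⟨j, hj⟩ := key b (mem_sup_right hb)
  rw [mem_centralizer_iff]
  intro x hx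
  obtain ⟨n, hn⟩ := Subgroup.mem_zpowers_iff.mp (hg ⟨x, hx⟩)
  have hn' : g.1 ^ n = x := (SubgroupClass.coe_zpow g n).symm.trans (congrArg Subtype.val hn)
  have h1 : ∀ m : ℤ, a * g.1 ^ m * a⁻¹ = g.1 ^ (i * m) := fun m => by
    rw [← conj_zpow, hi, ← zpow_mul]
  have h2 : ∀ m : ℤ, b * g.1 ^ m * b⁻¹ = g.1 ^ (j * m) := fun m => by
    rw [← conj_zpow, hj, ← zpow_mul]
  have h3 : a * b * x * (a * b)⁻¹ = b * a * x * (b * a)⁻¹ := by
    calc a * b * x * (a * b)⁻¹ = a * (b * x * b⁻¹) * a⁻¹ := by group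
      _ = g.1 ^ (i * (j * n)) := by rw [← hn', h2, h1]
      _ = g.1 ^ (j * (i * n)) := by ring_nf
      _ = b * (a * x * a⁻¹) * b⁻¹ := by rw [← hn', h1, h2]
      _ = b * a * x * (b * a)⁻¹ := by group
  -- conjugate by `(b a)⁻¹`
  have h4 : ⁅a, b⁆ * (b * a * x * (b * a)⁻¹) * ⁅a, b⁆⁻¹ = b * a * x * (b * a)⁻¹ := by
    conv_rhs => rw [← h3]
    rw [commutatorElement_def]; group
  have h5 : ∀ y : L ⧸ K.subgroupOf L, y ∈ sec K Q → b * a * ((b * a)⁻¹ * y * (b * a)) * (b * a)⁻¹ = y := fun y _ => by group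
  obtain ⟨m, hm⟩ : ∃ m : ℤ, (b * a)⁻¹ * x * (b * a) = g.1 ^ m := by
    have han : (b * a)⁻¹ ∈ normalizer (sec K Q : Set (L ⧸ K.subgroupOf L)) :=
      inv_mem (mul_mem (sec_le_normalizer hS'Q hb) (sec_le_normalizer hSQ ha))
    have hmem := (mem_normalizer_iff.mp han x).mp hx
    rw [inv_inv] at hmem
    obtain ⟨m, hm⟩ := Subgroup.mem_zpowers_iff.mp (hg ⟨_, hmem⟩)
    exact ⟨m, (congrArg Subtype.val hm).symm.trans (SubgroupClass.coe_zpow g m)⟩
  have h6 : a * b * g.1 ^ m * (a * b)⁻¹ = x := by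
    calc a * b * g.1 ^ m * (a * b)⁻¹ = a * (b * g.1 ^ m * b⁻¹) * a⁻¹ := by group
      _ = g.1 ^ (i * (j * m)) := by rw [h2, h1]
      _ = g.1 ^ (j * (i * m)) := by ring_nf
      _ = b * (a * g.1 ^ m * a⁻¹) * b⁻¹ := by rw [h1, h2]
      _ = x := by rw [← hm]; group
  have h7 : a * b * ((b * a)⁻¹ * x * (b * a)) * (a * b)⁻¹ = x := hm ▸ h6
  have h8 : ⁅a, b⁆ * x * ⁅a, b⁆⁻¹ = x := by
    conv_rhs => rw [← h7]
    rw [commutatorElement_def]; group
  exact (mul_inv_eq_iff_eq_mul.mp h8).symm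

variable [Finite X] {F H : Subgroup X} {p q : ℕ}

/-- The group of order `p` kills a coprime group modulo the kernel on a module without fixed points. -/
theorem lem_F (D : Data F H p q) {l t : ℕ} (hl : l.Prime) (ht : t.Prime) (hlt : l ≠ t) (hlp : l ≠ p)
    (htp : t ≠ p) (htq : t ≠ q) (E W : Subgroup X) (hE : IsPGroup t E) (hFE : F ≤ normalizer (E : Set X))
    (hW : Cfsg.IsElementaryAbelian l W) (hFW : F ≤ normalizer (W : Set X)) (hEW : E ≤ normalizer (W : Set X))
    (hfix : W ⊓ centralizer (F : Set X) = ⊥) : ⁅E, F⁆ ≤ centralizer (W : Set X) :=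
  GenA.FixedPointFreeModule.commutator_le_centralizer hl ht D.hp hlt hlp htp F E W D.hF hE hFE hW hFW hEW hfix
    (fun h2 hk => (D.no_fermat htq h2 hk).elim)

theorem Fpf.centralizer_sup_inf {S : Subgroup X} (h : Fpf F H S) :
    S ⊓ centralizer ((F ⊔ H : Subgroup X) : Set X) = ⊥ := by
  rw [centralizer_sup, eq_bot_iff]
  exact fun x hx => mem_bot.mpr (h.fix x hx.1 hx.2.1 hx.2.2)

theorem Data.sup_le_normalizer {S : Subgroup X} (h : Fpf F H S) : F ⊔ H ≤ normalizer (S : Set X) :=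
  sup_le h.hF h.hH

theorem Data.fixes_or_moves (D : Data F H p q) (K : Subgroup X) :
    F ≤ normalizer (K : Set X) ∨ F ⊓ normalizer (K : Set X) = ⊥ := by
  rcases D.hp.eq_one_or_self_of_dvd _ (D.hF ▸ Subgroup.card_dvd_of_le (inf_le_left (a := F) (b := normalizer (K : Set X)))) with h | h
  · exact Or.inr (Subgroup.card_eq_one.mp h)
  · refine Or.inl (inf_eq_left.mp (Subgroup.eq_of_le_of_card_ge inf_le_left ?_))
    rw [h, D.hF]

variable {l t : ℕ} {E V K : Subgroup X}

/-- A component fixed by `F` lies above `⁅E, F⁆`. -/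
theorem commutator_le_of_fixed (D : Data F H p q) (M : EMod l t E V) (hlp : l ≠ p) (hlq : l ≠ q) (htp : t ≠ p)
    (htq : t ≠ q) (hV : Fpf F H V) (hE : F ⊔ H ≤ normalizer (E : Set X)) (hK : Hyper t E K)
    (hW : V ⊓ centralizer (K : Set X) ≠ ⊥) (hFK : F ≤ normalizer (K : Set X)) : ⁅E, F⁆ ≤ K := by
  by_cases hfix : (V ⊓ centralizer (K : Set X)) ⊓ centralizer (F : Set X) = ⊥
  · have hEW : E ≤ normalizer ((V ⊓ centralizer (K : Set X) : Subgroup X) : Set X) :=
      le_normalizer_inf M.hEV (le_normalizer_centralizer (M.le_normalizer_hyper hK))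
    have hFW : F ≤ normalizer ((V ⊓ centralizer (K : Set X) : Subgroup X) : Set X) :=
      le_normalizer_inf hV.hF (le_normalizer_centralizer hFK)
    haveI := Fact.mk M.ht
    have h := lem_F D M.hl M.ht M.hne hlp htp htq E _ (Components.Hyperplane.isPGroup M.hE) (le_sup_left.trans hE)
      (Components.Hyperplane.isElementaryAbelian_of_le M.hV inf_le_left) hFW hEW hfix
    rw [← M.inf_centralizer_eq hK hW]
    exact le_inf (Coprime.commutator_le_of_le_normalizer (le_sup_left.trans hE)) h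
  · have hcop : (Nat.card (F ⊔ H : Subgroup X)).Coprime l := by
      rw [D.card_sup]
      exact Nat.Coprime.mul_left ((Nat.coprime_primes D.hp M.hl).mpr hlp.symm) ((Nat.coprime_primes D.hq M.hl).mpr hlq.symm)
    have h := M.inf_centralizer_stabilizer hK hE (sup_le hV.hF hV.hH) hV.centralizer_sup_inf hcop
    set S := (F ⊔ H) ⊓ normalizer (K : Set X)
    have hFS : F ≤ S := le_inf le_sup_left hFK
    obtain ⟨k, hk⟩ : p ∣ Nat.card S := D.hF ▸ Subgroup.card_dvd_of_le hFS
    have hkq : k ∣ q := by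
      have := Subgroup.card_dvd_of_le (inf_le_left (a := F ⊔ H) (b := normalizer (K : Set X)))
      rw [D.card_sup, hk] at this
      exact (Nat.mul_dvd_mul_iff_left D.hp.pos).mp this
    rcases D.hq.eq_one_or_self_of_dvd k hkq with rfl | rfl
    · have hFeq : F = S := Subgroup.eq_of_le_of_card_ge hFS (by rw [hk, D.hF, mul_one])
      rw [← hFeq] at h
      exact absurd h hfix
    · have hSeq : S = F ⊔ H := Subgroup.eq_of_le_of_card_ge inf_le_left (by rw [hk, D.card_sup])
      have hHK : H ≤ normalizer (K : Set X) := (le_sup_right.trans hSeq.ge).trans inf_le_right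
      have h2 := commutator_mod hK.1 (hK.2 ▸ M.ht) (M.le_normalizer_hyper hK) (le_sup_left.trans hE) hFK
        (le_sup_right.trans hE) hHK
      rwa [D.commutator_eq] at h2

/-- The stabilizer of a component moved by `F` has order `q` and fixes nothing in it. -/
theorem exists_stabilizer (D : Data F H p q) (M : EMod l t E V) (hlp : l ≠ p) (hlq : l ≠ q) (hV : Fpf F H V)
    (hE : F ⊔ H ≤ normalizer (E : Set X)) (hK : Hyper t E K) (hW : V ⊓ centralizer (K : Set X) ≠ ⊥)
    (hFK : F ⊓ normalizer (K : Set X) = ⊥) :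
    ∃ S : Subgroup X, Data F S p q ∧ F ⊔ S = F ⊔ H ∧ S ≤ normalizer (K : Set X) ∧
      (V ⊓ centralizer (K : Set X)) ⊓ centralizer (S : Set X) = ⊥ := by
  have hcop : (Nat.card (F ⊔ H : Subgroup X)).Coprime l := by
    rw [D.card_sup]
    exact Nat.Coprime.mul_left ((Nat.coprime_primes D.hp M.hl).mpr hlp.symm) ((Nat.coprime_primes D.hq M.hl).mpr hlq.symm)
  have h := M.inf_centralizer_stabilizer hK hE (sup_le hV.hF hV.hH) hV.centralizer_sup_inf hcop
  set S := (F ⊔ H) ⊓ normalizer (K : Set X) with hS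
  have hSn : S ≤ normalizer (F : Set X) := inf_le_left.trans (sup_le le_normalizer D.hHF)
  have hdisj : Disjoint F S := disjoint_iff.mpr (by rw [hS, ← inf_assoc, inf_eq_left.mpr (le_sup_left : F ≤ F ⊔ H), hFK])
  have hcard := Coprime.card_sup_of_disjoint hSn hdisj
  have hle : F ⊔ S ≤ F ⊔ H := sup_le le_sup_left inf_le_left
  have hdvd : Nat.card S ∣ q := by
    have := Subgroup.card_dvd_of_le hle
    rw [hcard, D.card_sup, D.hF] at this
    exact (Nat.mul_dvd_mul_iff_left D.hp.pos).mp this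
  rcases D.hq.eq_one_or_self_of_dvd _ hdvd with h1 | h1
  · rw [Subgroup.card_eq_one.mp h1] at h
    exfalso
    refine hW (eq_bot_iff.mpr fun w hw => h.le (mem_inf.mpr ⟨hw, mem_centralizer_iff.mpr ?_⟩))
    intro g hg
    rw [SetLike.mem_coe, mem_bot] at hg
    rw [hg, one_mul, mul_one]
  · have hsup : F ⊔ S = F ⊔ H := Subgroup.eq_of_le_of_card_ge hle (by rw [hcard, D.card_sup, D.hF, h1])
    refine ⟨S, ⟨D.hp, D.hq, D.hne, D.hF, h1, hSn, fun hc => D.hnc ?_⟩, hsup, inf_le_right, h⟩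
    haveI := Fact.mk D.hp
    haveI : IsCyclic F := isCyclic_of_prime_card D.hF
    letI : CommGroup F := IsCyclic.commGroup
    have : F ⊔ S ≤ centralizer (F : Set X) := sup_le
      (fun a ha => mem_centralizer_iff.mpr fun b hb => congrArg Subtype.val (mul_comm (⟨b, hb⟩ : F) ⟨a, ha⟩)) hc
    exact (le_sup_right.trans hsup.ge).trans this

theorem Fpf.change {S T : Subgroup X} (h : Fpf F H T) (hsup : F ⊔ S = F ⊔ H) : Fpf F S T := by
  refine ⟨h.hF, (le_sup_right.trans hsup.le).trans (sup_le h.hF h.hH), fun x hx hF hS => ?_⟩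
  have hx' : x ∈ T ⊓ centralizer ((F ⊔ S : Subgroup X) : Set X) := by
    rw [centralizer_sup]; exact ⟨hx, hF, hS⟩
  rw [hsup, h.centralizer_sup_inf] at hx'
  exact mem_bot.mp hx'

end Cfsg.Agent.GroupStructure3.PQ
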