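import Cfsg.Agent.GroupStructure3.PQ.Basic
import Cfsg.Agent.OddLocal.FrobeniusFormula

/-! Transport of the fixed point free configuration to subgroups and quotients. -/

set_option autoImplicit false
set_option linter.style.haveILetI false
set_option linter.deprecated false

namespace Cfsg.Agent.GroupStructure3.PQ

open Subgroup Cfsg.Agent
open scoped commutatorElement Pointwise

universe u v

variable {X : Type u} [Group X] {F H : Subgroup X} {p q : ℕ}

theorem centralizer_sup (U E : Subgroup X) :
    centralizer ((U ⊔ E : Subgroup X) : Set X) = centralizer (U : Set X) ⊓ centralizer (E : Set X) :=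
  le_antisymm (le_inf (centralizer_le (show (U : Set X) ⊆ (U ⊔ E : Subgroup X) from le_sup_left (a := U)))
    (centralizer_le (show (E : Set X) ⊆ (U ⊔ E : Subgroup X) from le_sup_right (a := U))))
    (le_centralizer_iff.mp (sup_le (le_centralizer_iff.mp inf_le_left) (le_centralizer_iff.mp inf_le_right)))

theorem Data.card_sup [Finite X] (D : Data F H p q) : Nat.card (F ⊔ H : Subgroup X) = p * q := by
  have hd : Disjoint F H := disjoint_of_coprime_natCard (by
    rw [D.hF, D.hH]; exact (Nat.coprime_primes D.hp D.hq).mpr D.hne)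
  rw [Coprime.card_sup_of_disjoint D.hHF hd, D.hF, D.hH]

theorem map_le_normalizer {Y : Type v} [Group Y] (f : X →* Y) {A S : Subgroup X}
    (h : A ≤ normalizer (S : Set X)) : A.map f ≤ normalizer ((S.map f : Subgroup Y) : Set Y) :=
  (Subgroup.map_mono h).trans (le_normalizer_map f)

theorem subgroupOf_le_normalizer (L : Subgroup X) {A S : Subgroup X}
    (h : A ≤ normalizer (S : Set X)) : A.subgroupOf L ≤ normalizer ((S.subgroupOf L : Subgroup L) : Set L) :=
  (Subgroup.comap_mono h).trans (le_normalizer_comap L.subtype)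

theorem card_subgroupOf {L S : Subgroup X} (h : S ≤ L) : Nat.card (S.subgroupOf L) = Nat.card S :=
  Nat.card_congr (Subgroup.subgroupOfEquivOfLe h).toEquiv

theorem card_map_eq [Finite X] {Y : Type v} [Group Y] (f : X →* Y) {S : Subgroup X}
    (h : (Nat.card f.ker).Coprime (Nat.card S)) : Nat.card (S.map f) = Nat.card S := by
  have h1 := Cfsg.Agent.OddLocal.FrobeniusFormula.card_eq_inf_ker_mul f S
  rw [inf_eq_bot_of_coprime h.symm, Subgroup.card_bot, one_mul] at h1
  exact h1.symm

theorem Data.map [Finite X] {Y : Type v} [Group Y] (D : Data F H p q) (f : X →* Y)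
    (hker : (Nat.card f.ker).Coprime (p * q)) : Data (F.map f) (H.map f) p q where
  hp := D.hp
  hq := D.hq
  hne := D.hne
  hF := by rw [card_map_eq f (by rw [D.hF]; exact hker.coprime_mul_right_right), D.hF]
  hH := by rw [card_map_eq f (by rw [D.hH]; exact hker.coprime_mul_left_right), D.hH]
  hHF := map_le_normalizer f D.hHF
  hnc := fun h => by
    have h1 : (⁅F, H⁆).map f = ⊥ := by
      rw [Subgroup.map_commutator]
      exact Coprime.commutator_eq_bot_iff_le_centralizer'.mpr h
    rw [D.commutator_eq, Subgroup.map_eq_bot_iff] at h1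
    have h2 : F ≤ ⊥ := (inf_eq_bot_of_coprime (H := F) (K := f.ker)
      (by rw [D.hF]; exact hker.coprime_mul_right_right.symm)).le.trans' (le_inf le_rfl h1)
    exact D.hp.ne_one (by rw [← D.hF, le_bot_iff.mp h2, Subgroup.card_bot])

theorem Fpf.map [Finite X] {Y : Type v} [Group Y] (D : Data F H p q) {S : Subgroup X} (h : Fpf F H S)
    (hcop : (Nat.card S).Coprime (p * q)) (hsolv : Group.IsSolvable S) (f : X →* Y) :
    Fpf (F.map f) (H.map f) (S.map f) := by
  refine ⟨map_le_normalizer f h.hF, map_le_normalizer f h.hH, fun y hy hyF hyH => ?_⟩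
  have hc : y ∈ S.map f ⊓ centralizer (((F ⊔ H).map f : Subgroup Y) : Set Y) := by
    refine ⟨hy, ?_⟩
    rw [Subgroup.map_sup, centralizer_sup]
    exact ⟨hyF, hyH⟩
  rw [← Coprime.map_inf_centralizer f (sup_le h.hF h.hH) (by rw [D.card_sup]; exact hcop.symm) (Or.inr hsolv),
    centralizer_sup] at hc
  obtain ⟨x, hx, rfl⟩ := hc
  obtain ⟨hxS, hxF, hxH⟩ := mem_inf.mp hx |>.imp id mem_inf.mp
  rw [h.fix x hxS hxF hxH, map_one]

theorem Data.subgroupOf (D : Data F H p q) {L : Subgroup X} (hFL : F ≤ L) (hHL : H ≤ L) :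
    Data (F.subgroupOf L) (H.subgroupOf L) p q where
  hp := D.hp
  hq := D.hq
  hne := D.hne
  hF := (card_subgroupOf hFL).trans D.hF
  hH := (card_subgroupOf hHL).trans D.hH
  hHF := subgroupOf_le_normalizer L D.hHF
  hnc := fun h => D.hnc fun a ha => mem_centralizer_iff.mpr fun b hb =>
    congrArg Subtype.val (mem_centralizer_iff.mp (h (show (⟨a, hHL ha⟩ : L) ∈ H.subgroupOf L from ha))
      ⟨b, hFL hb⟩ hb)

theorem Fpf.subgroupOf {S L : Subgroup X} (h : Fpf F H S) (hFL : F ≤ L) (hHL : H ≤ L) :
    Fpf (F.subgroupOf L) (H.subgroupOf L) (S.subgroupOf L) := by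
  refine ⟨subgroupOf_le_normalizer L h.hF, subgroupOf_le_normalizer L h.hH, fun x hx hxF hxH => ?_⟩
  refine Subtype.ext (h.fix x hx ?_ ?_)
  · exact mem_centralizer_iff.mpr fun b hb => congrArg Subtype.val (mem_centralizer_iff.mp hxF ⟨b, hFL hb⟩ hb)
  · exact mem_centralizer_iff.mpr fun b hb => congrArg Subtype.val (mem_centralizer_iff.mp hxH ⟨b, hHL hb⟩ hb)

end Cfsg.Agent.GroupStructure3.PQ
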